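import Cfsg.Agent.H449.Reg.Par
import Cfsg.Agent.H558.Cov.OgO
import Cfsg.Agent.H906.Cov.EKill
import Cfsg.Agent.H906.Cov.Num

/-!
# S3691: the list lemma for groups of isometries of dimension at least ten (helper449)

* `og_iso` : matrices: a group of isometries containing an element of large primitive order is reducible, of extension field type or
  contains `Ω(Q)`
* `cj φ` : `(V ≃ₗ[F] V) ≃* GL ι F`;  `AExt s H` : `H` normalises a field of degree `s`
* `og_abs` : the same for a quadratic space `V`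
* `AExt.dvd_fx`, `AExt.dvd_finrank`, `AExt.not_two` : consequences of `AExt`
* `num_of` : the numerical hypotheses for an element of prime power order
-/

set_option autoImplicit false
set_option linter.unusedSectionVars false

namespace Cfsg.Agent.H449.Reg

open Module QuadraticMap Cfsg Cfsg.Geo Matrix Cfsg.Agent.LieClassical.OrthCore Cfsg.Agent.LieClassical.OrthTrans
  Cfsg.Agent.H955 Cfsg.Agent.H954.TSing Cfsg.Agent.H884.El Cfsg.Agent.H278.Cov
open Cfsg.Agent.H951 (fx cm Inv)
open Cfsg.Agent.LieClassical.OrthFinite (glEquiv glEquiv_apply)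
open scoped MatrixGroups

universe u v

section Mat

variable {ι : Type} [Fintype ι] [DecidableEq ι] {F : Type u} [Field F]

/-- **the list lemma for isometry groups**; `hP` is the text of `S5948` -/
theorem og_iso (hP : H659.CovCore.S5948Stmt.{u}) [Fintype F] {k : ℕ} {Q : (ι → F) → F} (hQ : IsNondegenerateQuadraticForm Q) {H : Subgroup (GL ι F)}
    (hmem : ∀ x ∈ H, ∀ v, Q ((x : Matrix ι ι F) *ᵥ v) = Q v) {g : GL ι F} (hg : g ∈ H)
    (hnum : Num (Fintype.card F) (Fintype.card ι) k (orderOf g)) :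
    Red H ∨ Ext (Nat.gcd (Fintype.card ι) k) H ∨ omegaGL Q ≤ H := by
  have hten := hnum.ten
  have hone : Nonempty ι := Fintype.card_pos_iff.1 (by omega)
  by_cases hred : Red H
  · exact Or.inl hred
  right
  rcases H659.CovCore.core hP hg hnum hred with h | h | ⟨f', hf', h⟩ | ⟨τ, f', hf', h⟩ | ⟨Q', hQ', h⟩
  · exact Or.inl h
  · exfalso
    refine H905.not_sl_le_quadSimilarityGroup (by omega) hQ fun x hx => ?_
    exact ⟨1, fun v => by rw [Units.val_one, one_mul]; exact hmem x (h hx) v⟩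
  · exact (H558.Cov.symp_quad_false (by omega) hQ hf' fun x hx => hmem x (h x hx)).elim
  · exact (H558.Cov.unit_quad_false (by omega) hQ hf' fun x hx hd => hmem x (h x hx hd)).elim
  · right
    have h1 : FixesQuadForm (matrixSet (omegaGL Q')) Q := by
      rintro _ ⟨x, hx, rfl⟩ v
      exact hmem x (h hx) v
    obtain ⟨c, hc, h2⟩ := H925.Nat.quad_prop (H925.Nat.omegaGL_absIrr hQ' (by omega)) hQ' hQ (H925.Nat.omegaGL_fixes Q') h1
    have h3 : omegaGL Q = omegaGL Q' := H925.Nat.omegaGL_smul hc h2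
    rw [h3]
    exact h

end Mat

section cj

variable {F : Type u} [Field F] {V : Type v} [AddCommGroup V] [Module F V] {ι : Type} [Fintype ι] [DecidableEq ι]

/-- linear automorphisms as matrices -/
noncomputable def cj (φ : V ≃ₗ[F] (ι → F)) : (V ≃ₗ[F] V) ≃* GL ι F :=
  { toFun := fun e => (glEquiv ι F).symm ((φ.symm.trans e).trans φ)
    invFun := fun g => (φ.trans (glEquiv ι F g)).trans φ.symm
    left_inv := fun e => by
      change (φ.trans (glEquiv ι F ((glEquiv ι F).symm ((φ.symm.trans e).trans φ)))).trans φ.symm = e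
      rw [MulEquiv.apply_symm_apply]
      apply LinearEquiv.ext
      intro v
      simp
    right_inv := fun g => by
      apply (glEquiv ι F).injective
      change glEquiv ι F ((glEquiv ι F).symm _) = _
      rw [MulEquiv.apply_symm_apply]
      apply LinearEquiv.ext
      intro v
      simp
    map_mul' := fun a b => by
      rw [← map_mul]
      congr 1
      apply LinearEquiv.ext
      intro v
      change φ (a (b (φ.symm v))) = φ (a (φ.symm (φ (b (φ.symm v)))))
      rw [φ.symm_apply_apply] }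

theorem cj_apply (φ : V ≃ₗ[F] (ι → F)) (e : V ≃ₗ[F] V) (v : ι → F) :
    (cj φ e : Matrix ι ι F) *ᵥ v = φ (e (φ.symm v)) := by
  rw [← glEquiv_apply]
  change glEquiv ι F ((glEquiv ι F).symm ((φ.symm.trans e).trans φ)) v = _
  rw [MulEquiv.apply_symm_apply]
  rfl

theorem cj_apply' (φ : V ≃ₗ[F] (ι → F)) (e : V ≃ₗ[F] V) (v : V) :
    (cj φ e : Matrix ι ι F) *ᵥ (φ v) = φ (e v) := by
  rw [cj_apply, φ.symm_apply_apply]

/-- `H` normalises a field of linear maps of prime degree `s` (in coordinates) -/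
def AExt (s : ℕ) (H : Subgroup (V ≃ₗ[F] V)) : Prop :=
  ∃ (n : ℕ) (φ : V ≃ₗ[F] (Fin n → F)) (K : Subalgebra F (Matrix (Fin n) (Fin n) F)), s.Prime ∧ IsFieldSubalgebra s K ∧
    H.map (cj φ).toMonoidHom ≤ subalgebraNormalizer K

theorem finrank_of_equiv {n : ℕ} (φ : V ≃ₗ[F] (Fin n → F)) : finrank F V = n := by
  rw [φ.finrank_eq, Module.finrank_fintype_fun_eq_card, Fintype.card_fin]

theorem AExt.dvd_finrank [Finite F] {s : ℕ} {H : Subgroup (V ≃ₗ[F] V)} (h : AExt s H) : s ∣ finrank F V := by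
  obtain ⟨n, φ, K, hs, hK, hle⟩ := h
  have h1 := H906.Cov.ext_dvd hs hK (t := 1) (one_mem _) (by rw [orderOf_one]; exact Nat.coprime_one_left s) (0 : Polynomial F)
  rw [map_zero, LinearMap.ker_zero, finrank_top, Module.finrank_fintype_fun_eq_card, Fintype.card_fin] at h1
  rw [finrank_of_equiv φ]
  exact h1

theorem AExt.dvd_fx [Finite F] {s r : ℕ} {H : Subgroup (V ≃ₗ[F] V)} (h : AExt s H) {x : V ≃ₗ[F] V} (hx : x ∈ H)
    (hr : r.Prime) (hxr : x ^ r = 1) (hrs : r ≠ s) : s ∣ finrank F (fx (x : Module.End F V)) := by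
  obtain ⟨n, φ, K, hs, hK, hle⟩ := h
  have h0 : (cj φ x) ^ r = 1 := by rw [← map_pow, hxr, map_one]
  have h1 := H906.Cov.ext_dvd hs hK (t := cj φ x) (hle ⟨x, hx, rfl⟩)
    (Nat.Coprime.coprime_dvd_left (orderOf_dvd_of_pow_eq_one h0) ((Nat.coprime_primes hr hs).2 hrs)) (Polynomial.X - 1)
  have h2 : finrank F (fx (x : Module.End F V)) =
      finrank F (LinearMap.ker (Polynomial.aeval (Matrix.toLin' (cj φ x : Matrix (Fin n) (Fin n) F))
        (Polynomial.X - 1 : Polynomial F))) := by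
    have h3 : (fx (x : Module.End F V)).map (φ : V →ₗ[F] (Fin n → F)) =
        LinearMap.ker (Polynomial.aeval (Matrix.toLin' (cj φ x : Matrix (Fin n) (Fin n) F)) (Polynomial.X - 1 : Polynomial F)) := by
      ext w
      rw [map_sub, Polynomial.aeval_X, map_one, LinearMap.mem_ker, LinearMap.sub_apply, Matrix.toLin'_apply, sub_eq_zero]
      constructor
      · rintro ⟨v, hv, rfl⟩
        have h4 : x v = v := H951.mem_fx.1 hv
        change (cj φ x : Matrix (Fin n) (Fin n) F) *ᵥ (φ v) = φ v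
        rw [cj_apply', h4]
      · intro h4
        refine ⟨φ.symm w, H951.mem_fx.2 ?_, φ.apply_symm_apply w⟩
        rw [cj_apply] at h4
        apply φ.injective
        rw [φ.apply_symm_apply]
        exact h4
    rw [← h3]
    exact (LinearEquiv.finrank_map_eq φ _).symm
  rw [h2]
  exact h1

variable {Q : QuadraticForm F V}

/-- the transported quadratic form -/
def tq (Q : QuadraticForm F V) (φ : V ≃ₗ[F] (ι → F)) : QuadraticForm F (ι → F) := Q.comp (φ.symm : (ι → F) →ₗ[F] V)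

theorem tq_apply (φ : V ≃ₗ[F] (ι → F)) (v : ι → F) : tq Q φ v = Q (φ.symm v) := rfl

theorem polar_tq (φ : V ≃ₗ[F] (ι → F)) (u v : ι → F) : polar (tq Q φ) u v = polar Q (φ.symm u) (φ.symm v) := by
  simp only [polar, tq_apply, map_add]

theorem nondeg_tq (hQ : Nondeg Q) (φ : V ≃ₗ[F] (ι → F)) : Nondeg (tq Q φ) := by
  intro x hx
  have h1 : φ.symm x = 0 := hQ _ fun y => by
    have := hx (φ y)
    rwa [polar_tq, φ.symm_apply_apply] at this
  rw [← φ.apply_symm_apply x, h1, map_zero]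

theorem cj_iso (φ : V ≃ₗ[F] (ι → F)) {x : V ≃ₗ[F] V} (hx : x ∈ O Q) : cj φ x ∈ Cfsg.isometryGroup F (⇑(tq Q φ)) := by
  rw [LieClassical.OrthFinite.mem_isometryGroup_iff]
  intro v
  rw [tq_apply, cj_apply, φ.symm_apply_apply, tq_apply]
  exact mem_O.1 hx _

theorem AExt.not_two [Fintype F] [FiniteDimensional F V] (hQ : Nondeg Q) {H : Subgroup (V ≃ₗ[F] V)} (hH : H ≤ O Q)
    {j k r s : ℕ} (hr : PP (Nat.card F) j r) (hs : PP (Nat.card F) k s) (hn : finrank F V = j) (hj : Even j) (hk : Even k)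
    (hj2 : 2 ≤ j) (hjk : j < 2 * k) (hpar : Odd (j / 2 + k / 2)) (hrH : r ∣ Nat.card H) (hsH : s ∣ Nat.card H)
    (h : AExt 2 H) : False := by
  obtain ⟨n, φ, K, -, hK, hle⟩ := h
  have hn' := finrank_of_equiv φ
  have hc : Nat.card (H.map (cj φ).toMonoidHom) = Nat.card H := Subgroup.card_map_of_injective (cj φ).injective
  refine no_field2 (nondeg_tq hQ φ) (H := H.map (cj φ).toMonoidHom) ?_ hr hs (by rw [Fintype.card_fin]; omega) hj hk hj2 hjk hpar
    (by rw [hc]; exact hrH) (by rw [hc]; exact hsH) hK hle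
  rintro _ ⟨x, hx, rfl⟩
  exact cj_iso φ (hH hx)

/-- **the list lemma for a quadratic space of dimension at least ten** -/
theorem og_abs (hP : H659.CovCore.S5948Stmt.{u}) [Fintype F] [FiniteDimensional F V] (hQ : Nondeg Q) {H : Subgroup (V ≃ₗ[F] V)} (hH : H ≤ O Q)
    {g : V ≃ₗ[F] V} (hg : g ∈ H) {k : ℕ} (hnum : Num (Fintype.card F) (finrank F V) k (orderOf g)) :
    (∃ W : Submodule F V, W ≠ ⊥ ∧ W ≠ ⊤ ∧ ∀ h ∈ H, ∀ w ∈ W, h w ∈ W) ∨
    (∃ s, s.Prime ∧ s ∣ Nat.gcd (finrank F V) k ∧ AExt s H) ∨ E Q ≤ H := by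
  set n := finrank F V with hn
  let φ : V ≃ₗ[F] (Fin n → F) := LinearEquiv.ofFinrankEq _ _ (by rw [Module.finrank_fintype_fun_eq_card, Fintype.card_fin])
  have hQ' := nondeg_tq hQ φ
  have hQ'' := H884.OddForm.isNondegenerate_of_nondeg _ hQ'
  have ho : orderOf (cj φ g) = orderOf g := MulEquiv.orderOf_eq _ g
  rcases og_iso hP (k := k) hQ'' (H := H.map (cj φ).toMonoidHom) (by
    rintro _ ⟨x, hx, rfl⟩
    exact LieClassical.OrthFinite.mem_isometryGroup_iff.1 (cj_iso φ (hH hx))) (g := cj φ g) ⟨g, hg, rfl⟩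
    (by rw [ho, Fintype.card_fin]; exact hnum) with ⟨W, hW0, hW1, hW⟩ | ⟨s, K, hs, hsd, hK, hle⟩ | h
  · left
    refine ⟨W.comap (φ : V →ₗ[F] (Fin n → F)), ?_, ?_, ?_⟩
    · intro h0
      apply hW0
      rw [Submodule.eq_bot_iff]
      intro w hw
      have : φ.symm w ∈ W.comap (φ : V →ₗ[F] (Fin n → F)) := by
        change φ (φ.symm w) ∈ W
        rwa [φ.apply_symm_apply]
      rw [h0, Submodule.mem_bot] at this
      rw [← φ.apply_symm_apply w, this, map_zero]
    · intro h0
      apply hW1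
      rw [eq_top_iff]
      intro w _
      have : φ.symm w ∈ W.comap (φ : V →ₗ[F] (Fin n → F)) := by rw [h0]; trivial
      have h1 : φ (φ.symm w) ∈ W := this
      rwa [φ.apply_symm_apply] at h1
    · intro h hh w hw
      have h1 : cj φ h ∈ subspaceStabilizer W := hW ⟨h, hh, rfl⟩
      have h2 : (cj φ h : Matrix (Fin n) (Fin n) F) *ᵥ φ w ∈ W := (h1 (φ w)).1 hw
      rw [cj_apply'] at h2
      exact h2
  · right; left
    rw [Fintype.card_fin] at hsd
    exact ⟨s, hs, hsd, n, φ, K, hs, hK, hle⟩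
  · right; right
    have hn5 : 5 ≤ Fintype.card (Fin n) := by rw [Fintype.card_fin]; have := hnum.ten; omega
    rw [E, Subgroup.closure_le]
    rintro _ ⟨u, w, hu, hw, rfl⟩
    have hu' : (H884.OmegaGL.bundle (⇑(tq Q φ)) hQ'') (φ u) = 0 := by
      change Q (φ.symm (φ u)) = 0
      rw [φ.symm_apply_apply, hu]
    have hw' : polar (H884.OmegaGL.bundle (⇑(tq Q φ)) hQ'') (φ u) (φ w) = 0 := by
      change polar (tq Q φ) (φ u) (φ w) = 0
      rw [polar_tq, φ.symm_apply_apply, φ.symm_apply_apply, hw]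
    have h1 : cj φ (siegel Q u w hu hw) ∈ omegaGL (⇑(tq Q φ)) := by
      rw [H884.OmegaGL.mem_omegaGL _ hQ'' hn5]
      have h2 : glEquiv (Fin n) F (cj φ (siegel Q u w hu hw)) = siegel _ (φ u) (φ w) hu' hw' := by
        apply LinearEquiv.ext
        intro v
        rw [glEquiv_apply, siegel_apply, cj_apply, siegel_apply, map_sub, map_sub, map_add, map_smul, map_smul, map_smul,
          φ.apply_symm_apply]
        have e1 : ∀ a b : V, polar (H884.OmegaGL.bundle (⇑(tq Q φ)) hQ'') (φ a) (φ b) = polar Q a b := by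
          intro a b
          change polar (tq Q φ) (φ a) (φ b) = _
          rw [polar_tq, φ.symm_apply_apply, φ.symm_apply_apply]
        have e2 : (H884.OmegaGL.bundle (⇑(tq Q φ)) hQ'') (φ w) = Q w := by
          change Q (φ.symm (φ w)) = _
          rw [φ.symm_apply_apply]
        have e3 : v = φ (φ.symm v) := (φ.apply_symm_apply v).symm
        rw [e2]
        conv_rhs => rw [e3, e1, e1]
        rw [φ.apply_symm_apply]
      rw [h2]
      exact siegel_mem_E hu' hw'
    obtain ⟨x, hx, hxe⟩ := h h1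
    have : x = siegel Q u w hu hw := (cj φ).injective hxe
    rw [← this]
    exact hx

end cj

/-- the numerical hypotheses for the full `r`-part of `q ^ k - 1` -/
theorem num_of {p f k n r a : ℕ} (hp : p.Prime) (hf : 1 ≤ f) (hr : PP p (f * k) r) (hn : 10 ≤ n) (hkn : k ≤ n)
    (hk : n < 2 * k) (hbig : 2 * k + 1 < r ^ a) (hdvd : r ^ a ∣ (p ^ f) ^ k - 1) : Num (p ^ f) n k (r ^ a) := by
  have hfk : 1 ≤ f * k := Nat.mul_pos hf (by omega)
  have hpp : 1 ≤ p := hp.one_le
  have hnd : ∀ i : ℕ, 0 < i → i < f * k → ¬ r ∣ p ^ i - 1 := fun i hi hik h => by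
    have := Nat.le_of_dvd hi ((hr.dvd_iff hpp i).1 h)
    omega
  have ha : a ≠ 0 := by
    rintro rfl
    rw [pow_zero] at hbig
    omega
  refine ⟨hn, hkn, hk, hbig, hdvd, fun i hi hik => ?_, r, hr.prime, dvd_pow_self r ha, fun q₀ t ht h j hj1 hj2 => ?_⟩
  · apply Nat.Coprime.pow_left
    rw [Nat.Prime.coprime_iff_not_dvd hr.prime, ← pow_mul]
    exact hnd _ (Nat.mul_pos hf hi) (Nat.mul_lt_mul_of_pos_left hik hf)
  · exact H906.Cov.sub_of hp hf hk hnd ht h hj1 hj2

end Cfsg.Agent.H449.Reg
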