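import Cfsg.Agent.H449.Reg.Semi
import Cfsg.Agent.H884.ElT
import Cfsg.Agent.H193.Dg.Cyc

/-!
# S3691: preimages in `GL` of the factors of a group with socle `PΩ(Q)` (helper449)

`eT : T ≃* PΩ(Q)`, `X ≤ G`:
* `preG eT X` : the group of the matrices in `Ω(Q)` which map into `X ∩ T`
* `mem_preG`, `inv0_iff`, `card_dvd_preG`, `not_omega_le`
* `exists_pow` : elements of prime power order of `preG` from prime powers dividing `|X ∩ T|`, if the Sylow subgroups are cyclic
-/

set_option autoImplicit false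
set_option linter.unusedSectionVars false

namespace Cfsg.Agent.H449.Reg

open Module QuadraticMap Cfsg Cfsg.Geo Cfsg.Agent.LieClassical.OrthCore Cfsg.Agent.LieClassical.OrthTrans
  Cfsg.Agent.ClassicalGeometry.OrthSemi Cfsg.Agent.H454.Reg Cfsg.Agent.H884.El
open Cfsg.Agent.H951 (fx cm Inv)
open Cfsg.Agent.AutOrth.Main (oe pe oe_apply pe_mk)
open scoped MatrixGroups Matrix

universe u v

section

variable {ι : Type} [Fintype ι] [DecidableEq ι] {F : Type v} [Field F] {Q : QuadraticForm F (ι → F)}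
variable {G : Type u} [Group G] {T : Subgroup G} [T.Normal]

/-- the isomorphism onto `E Q / Z(E Q)` -/
noncomputable def eP (hG : Good Q) (eT : T ≃* POmega F (⇑Q)) : T ≃* (↥(E Q) ⧸ Subgroup.center ↥(E Q)) :=
  eT.trans (pe hG)

/-- the preimage in `GL` of `X ∩ T` -/
noncomputable def preG (eT : T ≃* POmega F (⇑Q)) (X : Subgroup G) : Subgroup (GL ι F) :=
  pre (⇑Q) ((X.subgroupOf T).map eT.toMonoidHom)

variable {eT : T ≃* POmega F (⇑Q)} {X : Subgroup G}

theorem mem_preG {x : Omega F (⇑Q)} : ((x : isometryGroup F (⇑Q)) : GL ι F) ∈ preG eT X ↔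
    ((eT.symm (QuotientGroup.mk x) : T) : G) ∈ X := by
  rw [preG, mem_pre, Subgroup.mem_map]
  constructor
  · rintro ⟨t, ht, h⟩
    have h1 : eT t = QuotientGroup.mk x := h
    rw [← h1, eT.symm_apply_apply]
    exact ht
  · intro h
    exact ⟨eT.symm (QuotientGroup.mk x), h, eT.apply_symm_apply _⟩

theorem preG_le : preG eT X ≤ isometryGroup F (⇑Q) := pre_le

theorem preG_le_omega : preG eT X ≤ omegaGL (⇑Q) := pre_le_omegaGL

theorem exists_of_mem_preG {g : GL ι F} (hg : g ∈ preG eT X) : ∃ x : Omega F (⇑Q),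
    ((x : isometryGroup F (⇑Q)) : GL ι F) = g ∧ ((eT.symm (QuotientGroup.mk x) : T) : G) ∈ X := by
  obtain ⟨_, ⟨x, hx, rfl⟩, rfl⟩ := hg
  exact ⟨x, rfl, mem_preG.1 ⟨x, ⟨x, hx, rfl⟩, rfl⟩⟩

theorem inv0_iff (hG : Good Q) {h : Ind (eP hG eT)} {W : Submodule F (ι → F)} [Finite F] :
    Inv0 h X W ↔ preG eT X ≤ subspaceStabilizer W := by
  constructor
  · intro hW g hg
    obtain ⟨x, rfl, hx⟩ := exists_of_mem_preG hg
    refine H884.OmegaGL.mem_subspaceStabilizer.2 fun w hw => ?_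
    have h1 := hW _ hx
    rw [act_T hG h (x := oe hG x) (by
      change pe hG (eT (eT.symm _)) = _
      rw [eT.apply_symm_apply, pe_mk])] at h1
    rw [← h1]
    exact ⟨w, hw, rfl⟩
  · intro hle t ht
    obtain ⟨x, hx⟩ := QuotientGroup.mk_surjective (eT t)
    have h1 : eT.symm (QuotientGroup.mk x) = t := by rw [hx, eT.symm_apply_apply]
    have h2 : ((x : isometryGroup F (⇑Q)) : GL ι F) ∈ preG eT X := mem_preG.2 (by rw [h1]; exact ht)
    rw [act_T hG h (x := oe hG x) (by
      change pe hG (eT t) = _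
      rw [← hx, pe_mk])]
    have h3 : W.map ((oe hG x).1 : (ι → F) →ₗ[F] (ι → F)) ≤ W := by
      rintro _ ⟨w, hw, rfl⟩
      exact H884.OmegaGL.mem_subspaceStabilizer.1 (hle h2) w hw
    refine Submodule.eq_of_le_of_finrank_eq h3 ?_
    exact LinearEquiv.finrank_map_eq (oe hG x).1 W

theorem card_dvd_preG [Finite F] : Nat.card (X.subgroupOf T) ∣ Nat.card (preG eT X) := by
  have h1 : Nat.card (X.subgroupOf T) = Nat.card ((X.subgroupOf T).map eT.toMonoidHom) :=
    (Subgroup.card_map_of_injective eT.injective).symm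
  rw [h1]
  exact card_dvd_pre

theorem not_omega_le (hT : ¬ T ≤ X) : ¬ omegaGL (⇑Q) ≤ preG eT X := by
  intro h
  apply hT
  intro t ht
  obtain ⟨x, hx⟩ := QuotientGroup.mk_surjective (eT ⟨t, ht⟩)
  have h1 : ((x : isometryGroup F (⇑Q)) : GL ι F) ∈ preG eT X := h ⟨x.1, x.2, rfl⟩
  rw [mem_preG, hx, eT.symm_apply_apply] at h1
  exact h1

/-- an element of order `r ^ a` of the preimage -/
theorem exists_pow [Finite G] (hD : H390.Lift.Data Q) {r a : ℕ} (hr : r.Prime) (hr2 : r ≠ 2)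
    (hcyc : ∀ P : Subgroup T, IsPGroup r P → IsCyclic P) (h : r ^ a ∣ Nat.card (X.subgroupOf T)) :
    ∃ g ∈ preG eT X, orderOf g = r ^ a := by
  have := Fact.mk hr
  obtain ⟨S⟩ : Nonempty (Sylow r (X.subgroupOf T)) := inferInstance
  have hc : IsCyclic ((S : Subgroup (X.subgroupOf T)).map (X.subgroupOf T).subtype) := hcyc _ (S.2.map _)
  have hcS : IsCyclic S := isCyclic_of_surjective
    ((S : Subgroup (X.subgroupOf T)).equivMapOfInjective (X.subgroupOf T).subtype (Subgroup.subtype_injective _)).symm.toMonoidHom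
    (MulEquiv.surjective _)
  obtain ⟨s, hs⟩ := IsCyclic.exists_generator (α := S)
  have hos : orderOf s = Nat.card S := by
    rw [← Nat.card_zpowers]
    have : Subgroup.zpowers s = ⊤ := by
      rw [eq_top_iff]; intro z _; exact hs z
    rw [this, Subgroup.card_top]
  obtain ⟨c, hc⟩ : r ^ a ∣ Nat.card S := S.pow_dvd_card_of_pow_dvd_card h
  have hpos : 0 < Nat.card S := Nat.card_pos
  have hc0 : c ≠ 0 := by rintro rfl; omega
  -- an element of order `r ^ a`
  set t : T := (((s ^ c : S) : X.subgroupOf T) : T) with ht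
  have hot : orderOf t = r ^ a := by
    rw [ht, Subgroup.orderOf_coe, Subgroup.orderOf_coe, orderOf_pow_of_dvd hc0 (by rw [hos, hc]; exact Dvd.intro_left _ rfl), hos, hc,
      Nat.mul_div_cancel _ (Nat.pos_of_ne_zero hc0)]
  have htX : (t : G) ∈ X := ((s ^ c : S) : X.subgroupOf T).2
  obtain ⟨x, hx⟩ := QuotientGroup.mk_surjective (eT t)
  have h1 : orderOf (QuotientGroup.mk x : POmega F (⇑Q)) = r ^ a := by
    have : (QuotientGroup.mk x : POmega F (⇑Q)) = eT t := hx
    rw [this, MulEquiv.orderOf_eq, hot]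
  have hodd : Nat.Coprime (r ^ a) 2 := Nat.Coprime.pow_left _ ((Nat.coprime_primes hr Nat.prime_two).2 hr2)
  -- `x ^ 2` has order `r ^ a`
  have h2 : (x ^ r ^ a) ^ 2 = 1 := by
    apply H390.Lift.center_sq hD
    rw [← QuotientGroup.eq_one_iff, QuotientGroup.mk_pow]
    have := pow_orderOf_eq_one (QuotientGroup.mk x : POmega F (⇑Q))
    rw [h1] at this
    exact this
  have h3 : orderOf (x ^ 2) = r ^ a := by
    apply Nat.dvd_antisymm
    · apply orderOf_dvd_of_pow_eq_one
      rw [← pow_mul, mul_comm, pow_mul]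
      exact h2
    · have h4 : orderOf ((QuotientGroup.mk x : POmega F (⇑Q)) ^ 2) = r ^ a := by
        rw [Nat.Coprime.orderOf_pow (by rw [h1]; exact hodd), h1]
      rw [← h4]
      have h5 : ((QuotientGroup.mk x : POmega F (⇑Q)) ^ 2) =
          QuotientGroup.mk' (Subgroup.center (Omega F (⇑Q))) (x ^ 2) := by rw [map_pow]; rfl
      rw [h5]
      exact orderOf_map_dvd _ _
  refine ⟨(((x ^ 2 : Omega F (⇑Q)) : isometryGroup F (⇑Q)) : GL ι F), ?_, ?_⟩
  · rw [mem_preG]
    have h5 : (QuotientGroup.mk (x ^ 2) : POmega F (⇑Q)) = eT (t ^ 2) := by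
      rw [map_pow, ← hx]; rfl
    rw [h5, eT.symm_apply_apply]
    exact X.pow_mem htX 2
  · rw [Subgroup.orderOf_coe, Subgroup.orderOf_coe, h3]

end

end Cfsg.Agent.H449.Reg
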