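import Cfsg.Agent.H449.Reg.NineC
import Cfsg.Agent.H449.Reg.Semi2

/-!
# S3691, section 5: `Ω_19(3)` (helper449)

* `count` : if `X` fixes a nonzero subspace of dimension at most three, then `(q - 1) q ^ (n - 2) ≤ |Y| q ^ 3`
-/

set_option autoImplicit false
set_option linter.unusedSectionVars false

namespace Cfsg.Agent.H449.Reg

open Module QuadraticMap Cfsg Cfsg.Geo Cfsg.Agent.LieClassical.OrthCore Cfsg.Agent.LieClassical.OrthTrans
  Cfsg.Agent.ClassicalGeometry.OrthSemi
  Cfsg.Agent.H454.Reg Cfsg.Agent.H884.El Cfsg.Agent.H955 Cfsg.Agent.H954.TSing Cfsg.Agent.H193.Dg Cfsg.Agent.H851.Dg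
open Cfsg.Agent.LieClassical.OrthForms (oddForm coe_oddForm)
open Cfsg.Agent.LieClassical.OrthFinite (glEquiv glEquiv_apply)
open Cfsg.Agent.H951 (fx cm Inv)
open Cfsg.Agent.H278.Cov (Red Ext)
open scoped MatrixGroups Matrix

universe u v

section count

variable {G : Type u} [Group G] {T : Subgroup G} [T.Normal]
variable {F V : Type*} [Field F] [AddCommGroup V] [Module F V] {Q : QuadraticForm F V}
variable {e : T ≃* (↥(E Q) ⧸ Subgroup.center ↥(E Q))}

/-- **counting vectors of a given norm** -/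
theorem count [Finite G] [Finite F] [FiniteDimensional F V] (hG : Good Q) (h : Ind e) {X Y : Subgroup G} (hf : Fac T X Y)
    {S : Submodule F V} (hS : S ≠ ⊥) (hX : ∀ x ∈ X, act h x S = S) (hd : finrank F S ≤ 3) :
    (Nat.card F - 1) * Nat.card F ^ (finrank F V - 2) ≤ Nat.card Y * Nat.card F ^ 3 := by
  classical
  have hfV : Finite V := Module.finite_of_finite F
  have := Fintype.ofFinite V
  have := Fintype.ofFinite F
  have := Fintype.ofFinite Y
  obtain ⟨s, hs, hs0⟩ := Submodule.exists_mem_ne_zero_of_ne_bot hS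
  obtain ⟨x, y, hxy⟩ := hG.exists_hyp
  set Z := perp Q (Submodule.span F {x, y}) with hZ
  have hzx : ∀ z : Z, polar Q (z : V) x = 0 := fun z => by
    rw [polar_comm]
    exact z.2 x (Submodule.subset_span (by simp))
  have hzy : ∀ z : Z, polar Q (z : V) y = 0 := fun z => by
    rw [polar_comm]
    exact z.2 y (Submodule.subset_span (by simp))
  let Φ : Fˣ × Z → V := fun az => (az.1 : F) • x + (((az.1⁻¹ : Fˣ) : F) * (Q s - Q (az.2 : V))) • y + (az.2 : V)
  have hpy : ∀ az, polar Q (Φ az) y = az.1 := by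
    intro az
    simp only [Φ]
    rw [polar_add_left, polar_add_left, polar_smul_left, polar_smul_left, hxy.pair, hxy.polar_right, hzy]
    simp
  have hpx : ∀ az, polar Q (Φ az) x = ((az.1⁻¹ : Fˣ) : F) * (Q s - Q (az.2 : V)) := by
    intro az
    simp only [Φ]
    rw [polar_add_left, polar_add_left, polar_smul_left, polar_smul_left, hxy.pair', hxy.polar_left, hzx]
    simp
  have hQΦ : ∀ az, Q (Φ az) = Q s := by
    intro az
    simp only [Φ]
    rw [Q_add, Q_add, QuadraticMap.map_smul, QuadraticMap.map_smul, hxy.left, hxy.right, polar_smul_left, polar_smul_right,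
      hxy.pair, polar_add_left, polar_smul_left, polar_smul_left, polar_comm Q x, polar_comm Q y, hzx, hzy]
    have : (az.1 : F) * ((az.1⁻¹ : Fˣ) : F) = 1 := by simp
    simp only [smul_eq_mul, mul_zero, mul_one, add_zero, zero_add]
    rw [← mul_assoc, this]
    ring
  have hΦ0 : ∀ az, Φ az ≠ 0 := by
    intro az h0
    have := hpy az
    rw [h0, polar_zero_left] at this
    exact az.1.ne_zero this.symm
  have hinj : Function.Injective Φ := by
    rintro ⟨a, z⟩ ⟨a', z'⟩ hab
    have h1 : (a : F) = a' := by rw [← hpy ⟨a, z⟩, hab, hpy]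
    have h2 : a = a' := Units.ext h1
    subst h2
    have h3 := hpx ⟨a, z⟩
    rw [hab, hpx] at h3
    have h4 : Φ ⟨a, z⟩ = (a : F) • x + (((a⁻¹ : Fˣ) : F) * (Q s - Q (z : V))) • y + (z : V) := rfl
    have h5 : Φ ⟨a, z'⟩ = (a : F) • x + (((a⁻¹ : Fˣ) : F) * (Q s - Q (z' : V))) • y + (z' : V) := rfl
    rw [h4, h5] at hab
    simp only at h3
    rw [h3] at hab
    have h6 : (z : V) = z' := add_left_cancel hab
    rw [Subtype.ext h6]
  have hcov : ∀ az, ∃ b : Y, Φ az ∈ act h (b : G) S := by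
    intro az
    obtain ⟨g, hg, hgs⟩ := hG.trans_norm hs0 (hΦ0 az) (hQΦ az).symm
    obtain ⟨b, hb, hbS⟩ := exists_act_eq hG h hf.symm hX hg
    exact ⟨⟨b, hb⟩, by rw [hbS, ← hgs]; exact ⟨s, hs, rfl⟩⟩
  have hcardS : ∀ b : Y, ((act h (b : G) S : Submodule F V) : Set V).toFinset.card ≤ Nat.card F ^ 3 := by
    intro b
    have h1 : Nat.card (act h (b : G) S) = Nat.card F ^ finrank F (act h (b : G) S) := Module.natCard_eq_pow_finrank
    have h2 : ((act h (b : G) S : Submodule F V) : Set V).toFinset.card = Nat.card (act h (b : G) S) := by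
      rw [Set.toFinset_card, Nat.card_eq_fintype_card]
      rfl
    rw [h2, h1, finrank_act]
    exact Nat.pow_le_pow_right Nat.card_pos hd
  have h1 : (Finset.univ.image Φ).card ≤
      ((Finset.univ : Finset Y).biUnion fun b => ((act h (b : G) S : Submodule F V) : Set V).toFinset).card := by
    apply Finset.card_le_card
    intro w hw
    obtain ⟨az, -, rfl⟩ := Finset.mem_image.1 hw
    obtain ⟨b, hb⟩ := hcov az
    exact Finset.mem_biUnion.2 ⟨b, Finset.mem_univ _, by simpa using hb⟩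
  rw [Finset.card_image_of_injective _ hinj, Finset.card_univ, Fintype.card_prod] at h1
  have h2 := Finset.card_biUnion_le_card_mul (Finset.univ : Finset Y)
    (fun b => ((act h (b : G) S : Submodule F V) : Set V).toFinset) (Nat.card F ^ 3) fun b _ => hcardS b
  have h3 : Fintype.card Fˣ = Nat.card F - 1 := by rw [Fintype.card_units, Nat.card_eq_fintype_card]
  have h4 : Nat.card F ^ (finrank F V - 2) ≤ Fintype.card Z := by
    rw [← Nat.card_eq_fintype_card, Module.natCard_eq_pow_finrank (K := F) (V := Z)]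
    apply Nat.pow_le_pow_right Nat.card_pos
    rw [hZ, finrank_perp hG.nondeg]
    have h5 : finrank F (Submodule.span F {x, y}) ≤ 2 := by
      have h6 := finrank_span_finset_le_card (R := F) ({x, y} : Finset V)
      have h7 : ({x, y} : Finset V).card ≤ 2 := Finset.card_le_two
      have h8 : (({x, y} : Finset V) : Set V) = {x, y} := by simp
      rw [Set.finrank, h8] at h6
      omega
    omega
  calc (Nat.card F - 1) * Nat.card F ^ (finrank F V - 2) ≤ Fintype.card Fˣ * Fintype.card Z := by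
        rw [h3]; exact Nat.mul_le_mul_left _ h4
    _ ≤ _ := h1
    _ ≤ _ := h2
    _ = Nat.card Y * Nat.card F ^ 3 := by rw [Finset.card_univ, Nat.card_eq_fintype_card (α := Y)]

end count

/-- the order of a factor -/
theorem card_factor_le {G : Type u} [Group G] [Finite G] {T Y : Subgroup G} [T.Normal]
    (hc : Subgroup.centralizer (T : Set G) = ⊥) :
    Nat.card Y ≤ Nat.card (Y.subgroupOf T) * Nat.card (Cfsg.Out T) := by
  rw [← card_subgroupOf_mul T Y]
  apply Nat.mul_le_mul_left
  have h1 : Nat.card (Y.map (QuotientGroup.mk' T)) ≤ Nat.card (G ⧸ T) := Subgroup.card_le_card_group _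
  have h2 : Nat.card (G ⧸ T) ∣ Nat.card (Cfsg.Out T) := index_dvd_out T hc
  have hfin : Finite (Cfsg.Out T) := by
    have : Finite (MulAut T) := Finite.of_injective (fun σ => (σ : T → T)) DFunLike.coe_injective
    exact Quotient.finite _
  exact h1.trans (Nat.le_of_dvd Nat.card_pos h2)

/-- **the small list for `(q, n, k, r) = (3, 19, 18, 37)`** -/
def Small37 : Prop := ∀ {F : Type} [Field F] [Finite F], Nat.card F = 3 → ∀ (R : Subgroup (GL (Fin 19) F)),
  37 ∣ Nat.card R → ActsIrreducibly (matrixSet R) →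
    specialLinear (Fin 19) F ≤ R ∨
    (∃ f : (Fin 19 → F) → (Fin 19 → F) → F, IsSymplecticForm f ∧
        ∀ x : GL (Fin 19) F, FixesForm {(x : Matrix (Fin 19) (Fin 19) F)} f → x ∈ R) ∨
    (∃ (τ : F ≃+* F) (f : (Fin 19 → F) → (Fin 19 → F) → F), IsUnitaryForm τ f ∧
        ∀ x : GL (Fin 19) F, FixesForm {(x : Matrix (Fin 19) (Fin 19) F)} f →
          Matrix.GeneralLinearGroup.det x = 1 → x ∈ R) ∨
    (∃ Q : (Fin 19 → F) → F, IsNondegenerateQuadraticForm Q ∧ omegaGL Q ≤ R) ∨
    Nat.card R ≤ 3000000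

theorem sm_iso (hS : Small37) {F : Type} [Field F] [Fintype F] (hF : Nat.card F = 3) {Q : QuadraticForm F (Fin 19 → F)}
    (hQ : Nondeg Q) {H : Subgroup (GL (Fin 19) F)} (hH : H ≤ Cfsg.isometryGroup F (⇑Q)) (hd : 37 ∣ Nat.card H) :
    Red H ∨ omegaGL (⇑Q) ≤ H ∨ Nat.card H ≤ 3000000 := by
  by_cases hred : Red H
  · exact Or.inl hred
  right
  have hQ' := H884.OddForm.isNondegenerate_of_nondeg _ hQ
  have hmem : ∀ x ∈ H, ∀ v, Q ((x : Matrix (Fin 19) (Fin 19) F) *ᵥ v) = Q v := fun x hx =>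
    LieClassical.OrthFinite.mem_isometryGroup_iff.1 (hH hx)
  have hirr : ActsIrreducibly (matrixSet H) := by
    intro W hW
    by_contra hcon
    push Not at hcon
    refine hred ⟨W, hcon.1, hcon.2, fun g hg => H884.OmegaGL.mem_subspaceStabilizer.2 fun w hw => ?_⟩
    exact hW _ ⟨g, hg, rfl⟩ ⟨w, hw, rfl⟩
  rcases hS hF H hd hirr with h | ⟨f', hf', h⟩ | ⟨τ, f', hf', h⟩ | ⟨Q', hQ'', h⟩ | h
  · exfalso
    refine H905.not_sl_le_quadSimilarityGroup (by rw [Fintype.card_fin]; norm_num) hQ' fun x hx => ?_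
    exact ⟨1, fun v => by rw [Units.val_one, one_mul]; exact hmem x (h hx) v⟩
  · exact (H558.Cov.symp_quad_false (by rw [Fintype.card_fin]; norm_num) hQ' hf' fun x hx => hmem x (h x hx)).elim
  · exact (H558.Cov.unit_quad_false (by rw [Fintype.card_fin]; norm_num) hQ' hf' fun x hx hd => hmem x (h x hx hd)).elim
  · left
    have h1 : FixesQuadForm (matrixSet (omegaGL Q')) (⇑Q) := by
      rintro _ ⟨x, hx, rfl⟩ v
      exact hmem x (h hx) v
    obtain ⟨c, hc, h2⟩ := H925.Nat.quad_prop (H925.Nat.omegaGL_absIrr hQ'' (by rw [Fintype.card_fin]; norm_num)) hQ'' hQ'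
      (H925.Nat.omegaGL_fixes Q') h1
    have h3 : omegaGL (⇑Q) = omegaGL Q' := H925.Nat.omegaGL_smul hc h2
    rw [h3]
    exact h
  · exact Or.inr h

section main

variable {ι : Type} [Fintype ι] [DecidableEq ι] {F : Type} [Field F] [Fintype F] {Q : QuadraticForm F (ι → F)}
variable {G : Type u} [Group G] [Finite G] {T : Subgroup G} [T.Normal] {hG : Good Q} {eT : T ≃* POmega F (⇑Q)}
  {hI : Ind (eP hG eT)} {X Y : Subgroup G}

namespace Ctx

/-- the list lemma for a factor containing `37` -/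
theorem sm_pre (h : Ctx hI X Y 3 1 9) (hS : Small37) (hd : 37 ∣ Nat.card (X.subgroupOf T)) :
    Red (preG eT X) ∨ Nat.card (preG eT X) ≤ 3000000 := by
  have hF : Nat.card F = 3 := by rw [h.card]; rfl
  let φ : (ι → F) ≃ₗ[F] (Fin 19 → F) := LinearEquiv.ofFinrankEq _ _ (by
    rw [Module.finrank_fintype_fun_eq_card, Module.finrank_fintype_fun_eq_card, Fintype.card_fin, h.dim])
  set H1 : Subgroup ((ι → F) ≃ₗ[F] (ι → F)) := (preG eT X).map (glEquiv ι F).toMonoidHom with hH1
  have hH1O : H1 ≤ O Q := by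
    rintro _ ⟨g, hg, rfl⟩
    rw [mem_O]
    intro v
    exact LieClassical.OrthFinite.mem_isometryGroup_iff.1 (preG_le hg) v
  have hc1 : Nat.card H1 = Nat.card (preG eT X) := Subgroup.card_map_of_injective (glEquiv ι F).injective
  have hc2 : Nat.card (H1.map (cj φ).toMonoidHom) = Nat.card H1 := Subgroup.card_map_of_injective (cj φ).injective
  rcases sm_iso hS hF (nondeg_tq hG.nondeg φ) (H := H1.map (cj φ).toMonoidHom) (by
    rintro _ ⟨x, hx, rfl⟩
    exact cj_iso φ (hH1O hx)) (by rw [hc2, hc1]; exact hd.trans card_dvd_preG) with ⟨W, hW0, hW1, hW⟩ | h1 | h1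
  · left
    refine ⟨W.comap (φ : (ι → F) →ₗ[F] (Fin 19 → F)), ?_, ?_, ?_⟩
    · intro h0
      apply hW0
      rw [Submodule.eq_bot_iff]
      intro w hw
      have : φ.symm w ∈ W.comap (φ : (ι → F) →ₗ[F] (Fin 19 → F)) := by
        change φ (φ.symm w) ∈ W
        rwa [φ.apply_symm_apply]
      rw [h0, Submodule.mem_bot] at this
      rw [← φ.apply_symm_apply w, this, map_zero]
    · intro h0
      apply hW1
      rw [eq_top_iff]
      intro w _
      have : φ.symm w ∈ W.comap (φ : (ι → F) →ₗ[F] (Fin 19 → F)) := by rw [h0]; trivial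
      have h1 : φ (φ.symm w) ∈ W := this
      rwa [φ.apply_symm_apply] at h1
    · intro g hg
      refine H884.OmegaGL.mem_subspaceStabilizer.2 fun w hw => ?_
      have h1 : cj φ (glEquiv ι F g) ∈ subspaceStabilizer W := hW ⟨glEquiv ι F g, ⟨g, hg, rfl⟩, rfl⟩
      have h2 : (cj φ (glEquiv ι F g) : Matrix (Fin 19) (Fin 19) F) *ᵥ φ w ∈ W := (h1 (φ w)).1 hw
      rw [cj_apply'] at h2
      exact h2
  · exfalso
    have h2 := E_le_of_omega (n := 19) (by norm_num) hG.nondeg φ h1
    apply not_omega_le h.fac.not_le_left (eT := eT)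
    intro x hx
    have hx' : glEquiv ι F x ∈ E Q := by
      have h5 : 5 ≤ Fintype.card ι := by rw [h.dim]; norm_num
      have hb : H884.OmegaGL.bundle (⇑Q) (H884.OddForm.isNondegenerate_of_nondeg _ hG.nondeg) = Q := DFunLike.coe_injective rfl
      have h6 := (H884.OmegaGL.mem_omegaGL _ (H884.OddForm.isNondegenerate_of_nondeg _ hG.nondeg) h5 x).1 hx
      rwa [hb] at h6
    obtain ⟨y, hy, hyx⟩ := h2 hx'
    have : y = x := (glEquiv ι F).injective hyx
    rw [← this]
    exact hy
  · right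
    rw [← hc1, ← hc2]
    exact h1

theorem pp37 : PP 3 (1 * (2 * 9)) 37 := by
  refine ⟨by norm_num, ?_⟩
  rw [orderOf_eq_iff (by norm_num)]
  decide

/-- **`Ω_19(3)`** -/
theorem main19_aux (h : Ctx hI X Y 3 1 9) (hP : H659.CovCore.S5948Stmt.{0}) (hS : Small37)
    (hout : Nat.card (Cfsg.Out T) ∣ 2) (hB : Big T X 3 1 16) : ∃ v, ResB hI X 9 v := by
  have hred : Red (preG eT X) := by
    rcases h.list hP (by norm_num) (k := 16) (by norm_num) (by norm_num) hB with h1 | ⟨s, K, hs, hsd, -⟩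
    · exact h1
    · exfalso
      have h3 : s ∣ 1 := by
        have h4 : Nat.gcd (2 * 9 + 1) 16 = 1 := by norm_num
        rwa [h4] at hsd
      exact hs.one_lt.ne' (Nat.dvd_one.1 h3)
  by_cases hX : Has T X 3 1 (2 * 9)
  · obtain ⟨v, hv⟩ := h.pt_of_red (by norm_num) hX hred
    refine ⟨v, h.stepB hP (by norm_num) hv hX (k := 16) (by norm_num) (by norm_num) hB fun s hs hd => ?_⟩
    have h4 : Nat.gcd (2 * 9) 16 = 2 := by norm_num
    rw [h4] at hd
    rw [(Nat.prime_dvd_prime_iff_eq hs Nat.prime_two).1 hd]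
    exact h.no_two (by norm_num) hv hX (i := 8) (by norm_num) ⟨8, by norm_num⟩ hB.has
  · exfalso
    have h37 : 37 ∣ Nat.card (Y.subgroupOf T) := by
      rcases h.side (i := 9) (by norm_num) le_rfl (by norm_num) pp37 with h1 | h1
      · exfalso
        exact hX ⟨37, pp37, by simpa using h1 1 (by norm_num)⟩
      · simpa using h1 1 (by norm_num)
    have hY : Has T Y 3 1 (2 * 9) := ⟨37, pp37, h37⟩
    rcases h.symm.sm_pre hS h37 with h1 | h1
    · obtain ⟨v, hv⟩ := h.symm.pt_of_red (by norm_num) hY h1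
      exact h.symm.no_red' hv.ne0 hv.fix (k := 16) (by norm_num) (by norm_num) hB.has hred
    · -- counting
      obtain ⟨r, hr, hd⟩ := hB.has
      obtain ⟨x, hx, ho⟩ := h.elt1 hr (by norm_num) (by norm_num) hd
      have hx1 := ne_one hr.prime ho
      have hiso := h.isoOf hr (by norm_num) hx ho
      have hfin : finrank F (ι → F) = 19 := by rw [Module.finrank_fintype_fun_eq_card, h.dim]
      obtain ⟨hcm, -⟩ := hiso.even_case hG.nondeg (lin_ne_one hx1) (h.pp hr) (by decide) (by rw [hfin]; norm_num)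
      have hadd := hiso.finrank_add
      obtain ⟨S, hS0, hSle, hSX⟩ := red_fixed hI (h.pp hr) (by norm_num) (by rw [h.dim]; norm_num) hx
        (by rw [← ho, pow_orderOf_eq_one]) hx1 hred
      have hS3 : finrank F S ≤ 3 := by
        have := Submodule.finrank_mono hSle
        omega
      have h2 := count hG hI h.fac hS0 hSX hS3
      have hF : Nat.card F = 3 := by rw [h.card]; rfl
      rw [hF, hfin] at h2
      have h3 := card_factor_le (Y := Y) h.fac.cent
      have h4 : Nat.card (Y.subgroupOf T) ≤ 3000000 :=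
        (Nat.le_of_dvd Nat.card_pos card_dvd_preG).trans h1
      have h5 : Nat.card (Cfsg.Out T) ≤ 2 := Nat.le_of_dvd (by norm_num) hout
      have h6 : Nat.card Y ≤ 3000000 * 2 := h3.trans (Nat.mul_le_mul h4 h5)
      norm_num at h2
      omega

theorem main19 (h : Ctx hI X Y 3 1 9) (hP : H659.CovCore.S5948Stmt.{0}) (hS : Small37)
    (hout : Nat.card (Cfsg.Out T) ∣ 2) : ∃ v, ResB hI X 9 v ∨ ResB hI Y 9 v := by
  rcases h.big_side (i := 8) (by norm_num) (by norm_num) (by norm_num)
    (lp_of Nat.prime_three le_rfl (by norm_num) (by norm_num) (by norm_num)) with hB | hB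
  · obtain ⟨v, hv⟩ := h.main19_aux hP hS hout hB
    exact ⟨v, Or.inl hv⟩
  · obtain ⟨v, hv⟩ := h.symm.main19_aux hP hS hout hB
    exact ⟨v, Or.inr hv⟩

end Ctx

end main

/-- **no factorization of `Ω_19(3)`** -/
theorem false19 (hP : H659.CovCore.S5948Stmt.{0}) (hS : Small37) {G : Type u} [Group G] [Finite G] {T X Y : Subgroup G} {F : Type}
    [Field F] [Fintype F] (hF : Fintype.card F = 3) (hf : Fac T X Y)
    (hT : Nonempty (T ≃* POmega F (quadFormOdd 9 F))) : False := by
  have hodd : Odd (Fintype.card F) := by rw [hF]; decide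
  have := hf.normal
  obtain ⟨hG, eT, hI, h⟩ := exists_ctx (p := 3) (f := 1) (by norm_num) Nat.prime_three le_rfl (by rw [hF]; rfl) hodd hf hT
  obtain ⟨e⟩ := hT
  have hout := out_dvd (p := 3) (f := 1) (by norm_num) Nat.prime_three le_rfl (by rw [hF]; rfl) hodd hf e
  exact h.false_of (by norm_num) hodd e (h.main19 hP hS (by simpa using hout))

end Cfsg.Agent.H449.Reg
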