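import Cfsg.Agent.H449.Reg.Par

/-!
# S3691: no quadratic field for two parities, any invariant bilinear form (helper449)

* `irr_of_normal` : a normal subgroup of an irreducible group containing an element with a large irreducible block is irreducible
* `no_types` : abstract form
* `no_field2_gen` : `H ≤ GL(ι, F)` irreducible, fixing a nondegenerate bilinear form `B`, of order divisible by `r_j`, `r_k`,
  `j`, `k` even and `> n / 2`, `j / 2`, `k / 2` of different parity: `H` normalises no field of matrices of degree two.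
-/

set_option autoImplicit false

namespace Cfsg.Agent.H449.Reg

open Module Cfsg.Geo Cfsg.Agent.H884.El
open Cfsg.Agent.H951 (fx cm Inv)
open scoped MatrixGroups Matrix Polynomial

universe u v

section Abs

variable {F : Type u} [Field F] {V : Type v} [AddCommGroup V] [Module F V]
  {B : LinearMap.BilinForm F V} {z J : Module.End F V}

theorem bil_pow (hz : ∀ u w, B (z u) (z w) = B u w) (n : ℕ) (u w : V) : B ((z ^ n) u) ((z ^ n) w) = B u w := by
  induction n with
  | zero => rfl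
  | succ n ih =>
    rw [pow_succ']
    change B (z ((z ^ n) u)) (z ((z ^ n) w)) = _
    rw [hz, ih]

theorem bil_aeval (hz : ∀ u w, B (z u) (z w) = B u w) {z' : Module.End F V} (hzz : z * z' = 1) (hcomm : Commute z z')
    (P : F[X]) (u w : V) : B (Polynomial.aeval z P u) w = B u (Polynomial.aeval z' P w) := by
  induction P using Polynomial.induction_on' with
  | add p q hp hq =>
    rw [map_add, map_add]
    change B (Polynomial.aeval z p u + Polynomial.aeval z q u) w =
      B u (Polynomial.aeval z' p w + Polynomial.aeval z' q w)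
    rw [map_add, map_add, LinearMap.add_apply, hp, hq]
  | monomial n a =>
    rw [Polynomial.aeval_monomial, Polynomial.aeval_monomial]
    change B (a • (z ^ n) u) w = B u (a • (z' ^ n) w)
    rw [map_smul, map_smul, LinearMap.smul_apply]
    congr 1
    have h1 : w = (z ^ n) ((z' ^ n) w) := by
      have : z ^ n * z' ^ n = 1 := by rw [← hcomm.mul_pow, hzz, one_pow]
      exact (congrArg (fun e : Module.End F V => e w) this).symm
    conv_lhs => rw [h1]
    exact bil_pow hz n u _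

/-- the adjoint of `J` on a subspace on which the isometry `z`, `z ^ (q ^ h + 1) = 1`, acts irreducibly -/
theorem bil_adj [Fintype F] {U : Submodule F V} (hz : ∀ u w, B (z u) (z w) = B u w) {h : ℕ}
    (hzh : z ^ (Fintype.card F ^ h + 1) = 1)
    (hU : Inv z U) (hirr : ∀ W ≤ U, Inv z W → W = ⊥ ∨ W = U) (hJU : ∀ u ∈ U, J u ∈ U) (hJz : ∀ v, J (z v) = z (J v))
    {u w : V} (hu : u ∈ U) (hw : w ∈ U) : B (J u) w = B u ((J ^ Fintype.card F ^ h) w) := by
  obtain ⟨P, hP⟩ := exists_poly hU hirr hJU hJz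
  have hc : Commute z (z ^ Fintype.card F ^ h) := (Commute.refl z).pow_right _
  rw [hP u hu, bil_aeval hz (z' := z ^ Fintype.card F ^ h) (by rw [← pow_succ', hzh]) hc, aeval_pow_card]
  have key : ∀ n : ℕ, ∀ w ∈ U, ((Polynomial.aeval z P) ^ n) w = (J ^ n) w ∧ (J ^ n) w ∈ U := by
    intro n
    induction n with
    | zero => intro w hw; exact ⟨rfl, hw⟩
    | succ n ih =>
      intro w hw
      obtain ⟨h1, h2⟩ := ih (J w) (hJU w hw)
      rw [pow_succ, pow_succ]
      refine ⟨?_, h2⟩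
      change ((Polynomial.aeval z P) ^ n) (Polynomial.aeval z P w) = (J ^ n) (J w)
      rw [← hP w hw, h1]
  rw [(key _ w hw).1]

/-- **a normal subgroup with a big block** of an irreducible group is irreducible -/
theorem irr_of_normal [FiniteDimensional F V] {H N : Subgroup (V ≃ₗ[F] V)}
    (hirr : ∀ W : Submodule F V, (∀ h ∈ H, ∀ w ∈ W, h w ∈ W) → W = ⊥ ∨ W = ⊤)
    (hN : ∀ h ∈ H, ∀ n ∈ N, h * n * h⁻¹ ∈ N) {x : V ≃ₗ[F] V} (hx : x ∈ N) (hx1 : x ≠ 1)
    (hblk : ∀ W : Submodule F V, (∀ w ∈ W, x w ∈ W) → W ≤ fx (x : Module.End F V) ∨ cm (x : Module.End F V) ≤ W)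
    (hbig : finrank F V < 2 * finrank F (cm (x : Module.End F V))) :
    ∀ W : Submodule F V, (∀ h ∈ N, ∀ w ∈ W, h w ∈ W) → W = ⊥ ∨ W = ⊤ := by
  classical
  by_contra hcon
  push Not at hcon
  obtain ⟨W₀, hW₀, hW₀0, hW₀1⟩ := hcon
  -- a nonzero invariant subspace of least dimension
  have hex : ∃ d : ℕ, ∃ W : Submodule F V, (∀ h ∈ N, ∀ w ∈ W, h w ∈ W) ∧ W ≠ ⊥ ∧ finrank F W = d := ⟨_, W₀, hW₀, hW₀0, rfl⟩
  obtain ⟨W, hW, hW0, hWd⟩ := Nat.find_spec hex
  have hmin : ∀ U : Submodule F V, (∀ h ∈ N, ∀ w ∈ U, h w ∈ U) → U ≠ ⊥ → finrank F W ≤ finrank F U := by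
    intro U hU hU0
    rw [hWd]
    exact Nat.find_min' hex ⟨U, hU, hU0, rfl⟩
  -- conjugates
  have hconj : ∀ h ∈ H, ∀ n ∈ N, ∀ w ∈ W.map (h : V →ₗ[F] V), n w ∈ W.map (h : V →ₗ[F] V) := by
    rintro h hh n hn _ ⟨w, hw, rfl⟩
    have h1 : h⁻¹ * n * h ∈ N := by
      have := hN h⁻¹ (H.inv_mem hh) n hn
      rwa [inv_inv] at this
    refine ⟨(h⁻¹ * n * h) w, hW _ h1 w hw, ?_⟩
    change (h * (h⁻¹ * n * h)) w = (n * h) w
    congr 1
    group
  have hx' : (x : Module.End F V) ≠ 1 := by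
    intro h0
    apply hx1
    apply LinearEquiv.ext
    intro v
    exact congrArg (fun e : Module.End F V => e v) h0
  -- some conjugate contains the block
  obtain ⟨h, hh, hblkh⟩ : ∃ h ∈ H, cm (x : Module.End F V) ≤ W.map (h : V →ₗ[F] V) := by
    by_contra hcon
    push Not at hcon
    have h1 : ∀ h ∈ H, W.map (h : V →ₗ[F] V) ≤ fx (x : Module.End F V) := fun h hh =>
      (hblk _ (hconj h hh x hx)).resolve_right (hcon h hh)
    -- the sum of the conjugates is everything
    have h2 : (⨆ h : H, W.map ((h : V ≃ₗ[F] V) : V →ₗ[F] V)) = ⊤ := by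
      rcases hirr (⨆ h : H, W.map ((h : V ≃ₗ[F] V) : V →ₗ[F] V)) (by
        intro g hg w hw
        have h3 : (⨆ h : H, W.map ((h : V ≃ₗ[F] V) : V →ₗ[F] V)) ≤
            (⨆ h : H, W.map ((h : V ≃ₗ[F] V) : V →ₗ[F] V)).comap (g : V →ₗ[F] V) := by
          refine iSup_le fun h => ?_
          rintro _ ⟨w, hw, rfl⟩
          have h4 := le_iSup (fun h : H => W.map ((h : V ≃ₗ[F] V) : V →ₗ[F] V)) (⟨g, hg⟩ * h)
          exact h4 ⟨w, hw, rfl⟩
        exact h3 hw) with h3 | h3
      · exfalso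
        apply hW0
        rw [eq_bot_iff]
        intro w hw
        have h4 := le_iSup (fun h : H => W.map ((h : V ≃ₗ[F] V) : V →ₗ[F] V)) 1
        rw [h3] at h4
        exact h4 ⟨w, hw, rfl⟩
      · exact h3
    have h3 : fx (x : Module.End F V) = ⊤ := by
      rw [eq_top_iff, ← h2]
      exact iSup_le fun h => h1 h h.2
    apply hx'
    ext v
    have : v ∈ fx (x : Module.End F V) := by rw [h3]; trivial
    rw [H951.mem_fx.1 this]
    rfl
  -- two conjugates coincide
  have hdim : ∀ g : V ≃ₗ[F] V, finrank F ↥(W.map (g : V →ₗ[F] V)) = finrank F W := fun g => LinearEquiv.finrank_map_eq g W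
  have hbigW : finrank F V < 2 * finrank F W := by
    have := Submodule.finrank_mono hblkh
    rw [hdim] at this
    omega
  have hall : ∀ g ∈ H, W.map (g : V →ₗ[F] V) = W := by
    intro g hg
    have h1 : W.map (g : V →ₗ[F] V) ⊓ W ≠ ⊥ := by
      intro h0
      have h2 := Submodule.finrank_sup_add_finrank_inf_eq (W.map (g : V →ₗ[F] V)) W
      rw [h0, finrank_bot, hdim] at h2
      have h3 := Submodule.finrank_le (W.map (g : V →ₗ[F] V) ⊔ W)
      omega
    have h2 := hmin (W.map (g : V →ₗ[F] V) ⊓ W) (fun n hn w hw => ⟨hconj g hg n hn w hw.1, hW n hn w hw.2⟩) h1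
    have h3 : W.map (g : V →ₗ[F] V) ⊓ W = W := Submodule.eq_of_le_of_finrank_le inf_le_right h2
    have h4 : W ≤ W.map (g : V →ₗ[F] V) := inf_eq_right.1 h3
    exact (Submodule.eq_of_le_of_finrank_eq h4 (hdim g).symm).symm
  rcases hirr W (fun g hg w hw => by
    have := hall g hg
    rw [← this]
    exact ⟨w, hw, rfl⟩) with h1 | h1
  · exact hW0 h1
  · have h2 := hmin W₀ hW₀ hW₀0
    rw [h1, finrank_top] at h2
    apply hW₀1
    exact Submodule.eq_top_of_finrank_eq (le_antisymm (Submodule.finrank_le _) h2)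

/-- **two parities, any form** -/
theorem no_types [Fintype F] [FiniteDimensional F V] (hB : B.Nondegenerate) {N : Subgroup (V ≃ₗ[F] V)}
    (hBN : ∀ g ∈ N, ∀ u w, B (g u) (g w) = B u w)
    (hirr : ∀ W : Submodule F V, (∀ h ∈ N, ∀ w ∈ W, h w ∈ W) → W = ⊥ ∨ W = ⊤)
    {x y : V ≃ₗ[F] V} (hx : x ∈ N) (hy : y ∈ N) (hx1 : x ≠ 1) (hy1 : y ≠ 1)
    {h₁ h₂ : ℕ} (hxh : (x : Module.End F V) ^ (Fintype.card F ^ h₁ + 1) = 1)
    (hyh : (y : Module.End F V) ^ (Fintype.card F ^ h₂ + 1) = 1) (hpar : Odd (h₁ + h₂))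
    (hsx : fx (x : Module.End F V) ⊔ cm (x : Module.End F V) = ⊤) (hsy : fx (y : Module.End F V) ⊔ cm (y : Module.End F V) = ⊤)
    (hxi : ∀ U ≤ cm (x : Module.End F V), Inv (x : Module.End F V) U → U = ⊥ ∨ U = cm (x : Module.End F V))
    (hyi : ∀ U ≤ cm (y : Module.End F V), Inv (y : Module.End F V) U → U = ⊥ ∨ U = cm (y : Module.End F V))
    (hJN : ∀ g ∈ N, ∀ v, J (g v) = g (J v))
    (hJ : J ^ Fintype.card F ^ 2 = J) (hinj : ∀ w, (J ^ Fintype.card F) w = J w → w = 0) : False := by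
  -- powers of `J`
  have hev : ∀ i : ℕ, J ^ Fintype.card F ^ (2 * i) = J := by
    intro i
    induction i with
    | zero => rw [mul_zero, pow_zero, pow_one]
    | succ i ih => rw [show 2 * (i + 1) = 2 * i + 2 by ring, pow_add, pow_mul, ih, hJ]
  have hod : ∀ i : ℕ, J ^ Fintype.card F ^ (2 * i + 1) = J ^ Fintype.card F := by
    intro i
    rw [pow_succ, pow_mul, hev]
  -- the left adjoint
  set J' : Module.End F V := B.leftAdjointOfNondegenerate hB J with hJ'
  have hadj : ∀ u w, B (J' u) w = B u (J w) := B.isAdjointPairLeftAdjointOfNondegenerate hB J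
  have hsep : ∀ u, (∀ w, B u w = 0) → u = 0 := fun u hu => by
    have h1 := hB.ker_eq_bot
    have h2 : u ∈ LinearMap.ker B := by
      rw [LinearMap.mem_ker]
      exact LinearMap.ext hu
    rw [h1] at h2
    exact h2
  have hJ'N : ∀ g ∈ N, ∀ v, J' (g v) = g (J' v) := by
    intro g hg v
    rw [← sub_eq_zero]
    apply hsep
    intro w
    rw [map_sub, LinearMap.sub_apply, hadj, sub_eq_zero]
    have e1 : g (g⁻¹ w) = w := by
      change (g * g⁻¹) w = w
      rw [mul_inv_cancel]; rfl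
    have e2 : J w = g (J (g⁻¹ w)) := by rw [← hJN g hg, e1]
    rw [e2, hBN g hg]
    conv_rhs => rw [← e1]
    rw [hBN g hg, hadj]
  -- comparison
  have key : ∀ {a : V ≃ₗ[F] V} {h : ℕ}, a ∈ N → a ≠ 1 → (a : Module.End F V) ^ (Fintype.card F ^ h + 1) = 1 →
      fx (a : Module.End F V) ⊔ cm (a : Module.End F V) = ⊤ →
      (∀ U ≤ cm (a : Module.End F V), Inv (a : Module.End F V) U → U = ⊥ ∨ U = cm (a : Module.End F V)) →
      J' = J ^ Fintype.card F ^ h := by
    intro a h ha ha1 hah hsa hai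
    have hJc : ∀ {L : Module.End F V}, (∀ g ∈ N, ∀ v, L (g v) = g (L v)) →
        ∀ u ∈ cm (a : Module.End F V), L u ∈ cm (a : Module.End F V) := by
      intro L hL u hu
      obtain ⟨v, rfl⟩ := H951.mem_cm.1 hu
      refine H951.mem_cm.2 ⟨L v, ?_⟩
      rw [map_sub]
      change a (L v) - L v = L (a v) - L v
      rw [hL a ha]
    have hpN : ∀ n : ℕ, ∀ g ∈ N, ∀ v, (J ^ n) (g v) = g ((J ^ n) v) := by
      intro n
      induction n with
      | zero => intro g _ v; rfl
      | succ n ih =>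
        intro g hg v
        rw [pow_succ']
        change J ((J ^ n) (g v)) = g (J ((J ^ n) v))
        rw [ih g hg, hJN g hg]
    -- `J' = J ^ N` on the block
    have h1 : ∀ u ∈ cm (a : Module.End F V), J' u = (J ^ Fintype.card F ^ h) u := by
      intro u hu
      rw [← sub_eq_zero]
      apply hsep
      intro w
      have hd : J' u - (J ^ Fintype.card F ^ h) u ∈ cm (a : Module.End F V) :=
        (cm (a : Module.End F V)).sub_mem (hJc hJ'N u hu) (hJc (hpN _) u hu)
      have hw : w ∈ fx (a : Module.End F V) ⊔ cm (a : Module.End F V) := by rw [hsa]; trivial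
      obtain ⟨f, hf, c, hc, rfl⟩ := Submodule.mem_sup.1 hw
      rw [map_add]
      have e1 : B (J' u - (J ^ Fintype.card F ^ h) u) f = 0 := by
        obtain ⟨v, hv⟩ := H951.mem_cm.1 hd
        rw [← hv, map_sub, LinearMap.sub_apply]
        have hf' : a f = f := H951.mem_fx.1 hf
        have e2 := hBN a ha v f
        rw [hf'] at e2
        change B (a v) f - B v f = 0
        rw [e2, sub_self]
      have e2 : B (J' u - (J ^ Fintype.card F ^ h) u) c = 0 := by
        rw [map_sub, LinearMap.sub_apply, hadj, sub_eq_zero]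
        have e3 := bil_adj (B := B.flip) (z := (a : Module.End F V)) (J := J) (h := h) (U := cm (a : Module.End F V))
          (fun u w => hBN a ha w u) hah H951.inv_cm hai (hJc hJN) (hJN a ha) (u := c) (w := u) hc hu
        exact e3
      rw [e1, e2, add_zero]
    -- Schur
    let D : Submodule F V := LinearMap.ker (J' - J ^ Fintype.card F ^ h)
    have hD : D = ⊤ := by
      rcases hirr D (by
        intro g hg w hw
        have h2 : J' w - (J ^ Fintype.card F ^ h) w = 0 := hw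
        change J' (g w) - (J ^ Fintype.card F ^ h) (g w) = 0
        rw [hJ'N g hg, hpN _ g hg, ← map_sub, h2, map_zero]) with h2 | h2
      · exfalso
        have h3 : cm (a : Module.End F V) ≤ D := fun u hu => by
          change J' u - (J ^ Fintype.card F ^ h) u = 0
          rw [h1 u hu, sub_self]
        rw [h2] at h3
        have h4 : cm (a : Module.End F V) = ⊥ := le_bot_iff.1 h3
        have h5 : (a : Module.End F V) - 1 = 0 := LinearMap.range_eq_bot.1 h4
        apply ha1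
        apply LinearEquiv.ext
        intro v
        exact congrArg (fun e : Module.End F V => e v) (sub_eq_zero.1 h5)
      · exact h2
    apply LinearMap.ext
    intro v
    have : v ∈ D := by rw [hD]; trivial
    exact sub_eq_zero.1 this
  have e1 := key hx hx1 hxh hsx hxi
  have e2 := key hy hy1 hyh hsy hyi
  have e3 : J ^ Fintype.card F = J := by
    rw [e1] at e2
    rcases Nat.even_or_odd h₁ with h | h
    · obtain ⟨i, hi⟩ := h
      have h' : Odd h₂ := by
        rcases Nat.even_or_odd h₂ with h3 | h3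
        · exfalso
          exact (Nat.not_odd_iff_even.2 (Even.add ⟨i, hi⟩ h3)) hpar
        · exact h3
      obtain ⟨j, hj⟩ := h'
      rw [hj, hod, hi, ← two_mul, hev] at e2
      exact e2.symm
    · obtain ⟨i, hi⟩ := h
      have h' : Even h₂ := by
        rcases Nat.even_or_odd h₂ with h3 | h3
        · exact h3
        · exfalso
          exact (Nat.not_odd_iff_even.2 (Odd.add_odd ⟨i, hi⟩ h3)) hpar
      obtain ⟨j, hj⟩ := h'
      rw [hi, hod, hj, ← two_mul, hev] at e2
      exact e2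
  apply hx1
  apply LinearEquiv.ext
  intro v
  have h0 : ∀ w : V, w = 0 := fun w => hinj w (by rw [e3])
  rw [h0 (x v), h0 ((1 : V ≃ₗ[F] V) v)]

end Abs

section Mat

variable {ι : Type} [Fintype ι] [DecidableEq ι] {F : Type u} [Field F] [Fintype F]
  {H : Subgroup (GL ι F)} {B : LinearMap.BilinForm F (ι → F)} {j k r s : ℕ}

/-- data of an element of order `r`, `ord_r(q) = e > n / 2` -/
theorem elt_data {x : Module.End F (ι → F)} {e t : ℕ} (ht : PP (Nat.card F) e t) (he : 2 ≤ e) (hn : Fintype.card ι < 2 * e)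
    (hx : x ^ t = 1) (hx1 : x ≠ 1) :
    fx x ⊔ cm x = ⊤ ∧ finrank F (cm x) = e ∧ (∀ W : Submodule F (ι → F), Inv x W → W ≤ fx x ∨ cm x ≤ W) ∧
      ∀ U ≤ cm x, Inv x U → U = ⊥ ∨ U = cm x := by
  have := Fact.mk ht.prime
  have h0 : (t : F) ≠ 0 := ht.ne0 (by omega)
  have hc := H951.isCompl_fx_cm h0 hx
  have hdvd : ∀ W : Submodule F (ι → F), Inv x W → e ∣ finrank F ↥(W ⊓ cm x) := by
    intro W hW
    rw [← ord_eq ht]
    exact H951.ord_dvd_finrank hx (hW.inf H951.inv_cm) (H951.inf_fx_of_le_cm h0 hx inf_le_right)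
  have hfin : finrank F (ι → F) = Fintype.card ι := Module.finrank_fintype_fun_eq_card F
  have hcm : finrank F (cm x) = e := by
    have h1 := hdvd ⊤ H951.inv_top
    rw [top_inf_eq] at h1
    have h2 : finrank F (cm x) ≤ finrank F (ι → F) := Submodule.finrank_le _
    have h3 : finrank F (cm x) ≠ 0 := fun h => cm_ne_bot hx1 (Submodule.finrank_eq_zero.1 h)
    obtain ⟨A, hA⟩ := h1
    have hA1 : A = 1 := by
      have h4 : A < 2 := by
        by_contra hcon
        push Not at hcon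
        have := Nat.mul_le_mul_left e hcon
        omega
      have h5 : A ≠ 0 := by rintro rfl; omega
      omega
    rw [hA, hA1, mul_one]
  have hor : ∀ W : Submodule F (ι → F), Inv x W → W ≤ fx x ∨ cm x ≤ W := by
    intro W hW
    have h1 := hdvd W hW
    have h2 : finrank F ↥(W ⊓ cm x) ≤ finrank F (cm x) := Submodule.finrank_mono inf_le_right
    rcases Nat.eq_zero_or_pos (finrank F ↥(W ⊓ cm x)) with h3 | h3
    · left
      have h4 : W ⊓ cm x = ⊥ := Submodule.finrank_eq_zero.1 h3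
      have h5 := H951.inf_fx_sup_inf_cm h0 hx hW
      rw [h4, sup_bot_eq] at h5
      rw [← h5]
      exact inf_le_right
    · right
      have := Nat.le_of_dvd h3 h1
      have h6 : W ⊓ cm x = cm x := Submodule.eq_of_le_of_finrank_eq inf_le_right (by omega)
      rw [← h6]
      exact inf_le_left
  refine ⟨hc.sup_eq_top, hcm, hor, fun U hU hUi => ?_⟩
  rcases hor U hUi with h1 | h1
  · left
    rw [eq_bot_iff, ← hc.inf_eq_bot]
    exact le_inf h1 hU
  · exact Or.inr (le_antisymm hU h1)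

/-- **no quadratic field for two parities**, any invariant nondegenerate bilinear form -/
theorem no_field2_gen (hirr : ActsIrreducibly (matrixSet H)) (hB : B.Nondegenerate)
    (hBH : ∀ g ∈ H, ∀ u w, B ((g : Matrix ι ι F) *ᵥ u) ((g : Matrix ι ι F) *ᵥ w) = B u w)
    (hr : PP (Nat.card F) j r) (hs : PP (Nat.card F) k s) (hj : Even j) (hk : Even k) (hnj : Fintype.card ι < 2 * j)
    (hnk : Fintype.card ι < 2 * k) (hj2 : 2 ≤ j) (hk2 : 2 ≤ k) (hpar : Odd (j / 2 + k / 2))
    (hrH : r ∣ Nat.card H) (hsH : s ∣ Nat.card H)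
    {K : Subalgebra F (Matrix ι ι F)} (hK : IsFieldSubalgebra 2 K) (hHK : H ≤ subalgebraNormalizer K) : False := by
  have hq := one_lt_q F
  have hcf : Fintype.card F = Nat.card F := (Nat.card_eq_fintype_card).symm
  have hfinGL : Finite (GL ι F) := inferInstance
  have hfin : finrank F (ι → F) = Fintype.card ι := Module.finrank_fintype_fun_eq_card F
  -- elements
  have hel : ∀ {e t : ℕ}, PP (Nat.card F) e t → 2 ≤ e → t ∣ Nat.card H → ∃ g ∈ H, g ^ t = 1 ∧ g ≠ 1 := by
    intro e t ht he hd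
    have := Fact.mk ht.prime
    obtain ⟨g, hg⟩ := exists_prime_orderOf_dvd_card' t hd
    refine ⟨g, g.2, ?_, ?_⟩
    · rw [← Subgroup.coe_pow, ← hg, pow_orderOf_eq_one]; rfl
    · intro h1
      have hg2 : g = 1 := Subtype.ext h1
      rw [hg2, orderOf_one] at hg
      exact ht.prime.one_lt.ne hg
  obtain ⟨g, hgH, hgr, hg1⟩ := hel hr hj2 hrH
  obtain ⟨h, hhH, hhs, hh1⟩ := hel hs hk2 hsH
  have hne : Nonempty ι := by
    by_contra h0
    rw [not_nonempty_iff] at h0
    exact hg1 (Subsingleton.elim _ _)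
  have hlin : ∀ {a : GL ι F} {t : ℕ}, a ^ t = 1 → (lin a) ^ t = 1 := by
    intro a t ha
    rw [← H251.GeoCard.toLin_pow, ha]; exact lin_one
  obtain ⟨g1, g2, g3, g4⟩ := elt_data hr hj2 hnj (hlin hgr) (lin_ne_one hg1)
  obtain ⟨h1, h2, h3, h4⟩ := elt_data hs hk2 hnk (hlin hhs) (lin_ne_one hh1)
  obtain ⟨J, hJK, hJ2, hJinj⟩ := exists_prim hK
  have hcg := comm_field Nat.prime_two hK (hHK hgH) hr.prime (by have := hr.lt (by omega); omega) hgr
  have hch := comm_field Nat.prime_two hK (hHK hhH) hs.prime (by have := hs.lt (by omega); omega) hhs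
  -- the centraliser of the field
  let φ := LieClassical.OrthFinite.glEquiv ι F
  let N0 : Subgroup (GL ι F) :=
    { carrier := {a | a ∈ H ∧ ∀ x ∈ K, (a : Matrix ι ι F) * x = x * (a : Matrix ι ι F)}
      mul_mem' := by
        rintro a b ⟨ha, ha'⟩ ⟨hb, hb'⟩
        refine ⟨H.mul_mem ha hb, fun x hx => ?_⟩
        rw [Units.val_mul, Matrix.mul_assoc, hb' x hx, ← Matrix.mul_assoc, ha' x hx, Matrix.mul_assoc]
      one_mem' := ⟨H.one_mem, fun x _ => by rw [Units.val_one, Matrix.one_mul, Matrix.mul_one]⟩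
      inv_mem' := by
        rintro a ⟨ha, ha'⟩
        refine ⟨H.inv_mem ha, fun x hx => ?_⟩
        have h5 := ha' x hx
        have h6 : ((a⁻¹ : GL ι F) : Matrix ι ι F) * (a : Matrix ι ι F) = 1 := by rw [← Units.val_mul, inv_mul_cancel]; rfl
        have h7 : (a : Matrix ι ι F) * ((a⁻¹ : GL ι F) : Matrix ι ι F) = 1 := by rw [← Units.val_mul, mul_inv_cancel]; rfl
        calc ((a⁻¹ : GL ι F) : Matrix ι ι F) * x
            = ((a⁻¹ : GL ι F) : Matrix ι ι F) * (x * (a : Matrix ι ι F)) * ((a⁻¹ : GL ι F) : Matrix ι ι F) := by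
              rw [Matrix.mul_assoc, Matrix.mul_assoc, h7, Matrix.mul_one]
          _ = x * ((a⁻¹ : GL ι F) : Matrix ι ι F) := by
              rw [← h5, ← Matrix.mul_assoc, h6, Matrix.one_mul] }
  have hφe : ∀ (a : GL ι F) (v : ι → F), φ a v = (a : Matrix ι ι F) *ᵥ v := fun a v => rfl
  have hφl : ∀ a : GL ι F, ((φ a : (ι → F) ≃ₗ[F] (ι → F)) : Module.End F (ι → F)) = lin a := by
    intro a
    apply LinearMap.ext
    intro v
    rw [lin, Matrix.toLin'_apply]
    rfl
  have hφ1 : ∀ {a : GL ι F}, a ≠ 1 → φ a ≠ 1 := fun ha h0 => ha (by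
    have : φ _ = φ 1 := h0.trans (map_one φ).symm
    exact φ.injective this)
  have hstab : ∀ W : Submodule F (ι → F), (∀ h ∈ H, ∀ w ∈ W, φ h w ∈ W) → W = ⊥ ∨ W = ⊤ := by
    intro W hW
    refine hirr W ?_
    rintro _ ⟨a, ha, rfl⟩
    rintro _ ⟨w, hw, rfl⟩
    exact hW a ha w hw
  have hgN : φ g ∈ N0.map φ.toMonoidHom := ⟨g, ⟨hgH, hcg⟩, rfl⟩
  have hhN : φ h ∈ N0.map φ.toMonoidHom := ⟨h, ⟨hhH, hch⟩, rfl⟩
  have hN0 : ∀ W : Submodule F (ι → F), (∀ a ∈ N0.map φ.toMonoidHom, ∀ w ∈ W, a w ∈ W) → W = ⊥ ∨ W = ⊤ := by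
    refine irr_of_normal (H := H.map φ.toMonoidHom) (N := N0.map φ.toMonoidHom) ?_ ?_ (x := φ g) hgN (hφ1 hg1) ?_ ?_
    · intro W hW
      exact hstab W fun a ha => hW _ ⟨a, ha, rfl⟩
    · rintro _ ⟨a, ha, rfl⟩ _ ⟨b, ⟨hb, hb'⟩, rfl⟩
      refine ⟨a * b * a⁻¹, ⟨H.mul_mem (H.mul_mem ha hb) (H.inv_mem ha), fun x hx => ?_⟩, by
        change φ (a * b * a⁻¹) = φ a * φ b * (φ a)⁻¹
        rw [map_mul, map_mul, map_inv]⟩
      -- `a⁻¹ x a ∈ K`
      have h5 : ((a⁻¹ : GL ι F) : Matrix ι ι F) * x * (a : Matrix ι ι F) ∈ K := by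
        have h6 := ((hHK (H.inv_mem ha)) x).1 hx
        have h7 : (((a⁻¹)⁻¹ : GL ι F) : Matrix ι ι F) = a := by rw [inv_inv]
        change ((a⁻¹ : GL ι F) : Matrix ι ι F) * x * (((a⁻¹)⁻¹ : GL ι F) : Matrix ι ι F) ∈ K at h6
        rwa [h7] at h6
      have h8 := hb' _ h5
      have h9 : ((a⁻¹ : GL ι F) : Matrix ι ι F) * (a : Matrix ι ι F) = 1 := by rw [← Units.val_mul, inv_mul_cancel]; rfl
      have h10 : (a : Matrix ι ι F) * ((a⁻¹ : GL ι F) : Matrix ι ι F) = 1 := by rw [← Units.val_mul, mul_inv_cancel]; rfl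
      rw [Units.val_mul, Units.val_mul]
      calc (a : Matrix ι ι F) * (b : Matrix ι ι F) * ((a⁻¹ : GL ι F) : Matrix ι ι F) * x
          = (a : Matrix ι ι F) * ((b : Matrix ι ι F) * (((a⁻¹ : GL ι F) : Matrix ι ι F) * x * (a : Matrix ι ι F))) *
              ((a⁻¹ : GL ι F) : Matrix ι ι F) := by
            simp only [Matrix.mul_assoc]
            rw [h10, Matrix.mul_one]
        _ = x * ((a : Matrix ι ι F) * (b : Matrix ι ι F) * ((a⁻¹ : GL ι F) : Matrix ι ι F)) := by
            rw [h8]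
            simp only [← Matrix.mul_assoc]
            rw [h10, Matrix.one_mul]
    · intro W hW
      rw [hφl]
      exact g3 W fun w hw => by
        rw [← hφl]
        exact hW w hw
    · rw [hφl, g2, hfin]
      omega
  have hpow : ∀ {x : Module.End F (ι → F)} {e t : ℕ}, x ^ t = 1 → PP (Nat.card F) e t → Even e → 1 ≤ e →
      x ^ (Fintype.card F ^ (e / 2) + 1) = 1 := by
    intro x e t hx ht hev he
    have h1 : t ∣ Nat.card F ^ e - 1 := (ht.dvd_iff hq.le e).2 dvd_rfl
    have h2 : ¬ t ∣ Nat.card F ^ (e / 2) - 1 := by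
      rw [ht.dvd_iff hq.le]
      intro h3
      obtain ⟨c, hc⟩ := hev
      have := Nat.le_of_dvd (by omega) h3
      omega
    have h3 : Nat.card F ^ e - 1 = (Nat.card F ^ (e / 2) + 1) * (Nat.card F ^ (e / 2) - 1) := by
      have h4 := Nat.sq_sub_sq (Nat.card F ^ (e / 2)) 1
      rw [one_pow, ← pow_mul, Nat.div_mul_cancel (even_iff_two_dvd.1 hev)] at h4
      exact h4
    rw [h3] at h1
    obtain ⟨c, hc⟩ := (ht.prime.dvd_mul.1 h1).resolve_right h2
    rw [hcf, hc, pow_mul, hx, one_pow]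
  have hpw : ∀ n : ℕ, ∀ w, ((Matrix.toLin' J) ^ n) w = (J ^ n) *ᵥ w := by
    intro n w
    rw [← Matrix.toLin'_pow, Matrix.toLin'_apply]
  refine no_types (J := Matrix.toLin' J) hB (N := N0.map φ.toMonoidHom) ?_ hN0 hgN hhN (hφ1 hg1) (hφ1 hh1) (h₁ := j / 2)
    (h₂ := k / 2) ?_ ?_ hpar ?_ ?_ ?_ ?_ ?_ ?_ ?_
  · rintro _ ⟨a, ⟨ha, -⟩, rfl⟩ u w
    exact hBH a ha u w
  · rw [hφl]; exact hpow (hlin hgr) hr hj (by omega)
  · rw [hφl]; exact hpow (hlin hhs) hs hk (by omega)
  · rw [hφl]; exact g1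
  · rw [hφl]; exact h1
  · rw [hφl]; exact g4
  · rw [hφl]; exact h4
  · rintro _ ⟨a, ⟨-, ha⟩, rfl⟩ v
    change J *ᵥ ((a : Matrix ι ι F) *ᵥ v) = (a : Matrix ι ι F) *ᵥ (J *ᵥ v)
    rw [Matrix.mulVec_mulVec, Matrix.mulVec_mulVec, ha J hJK]
  · rw [← Matrix.toLin'_pow, hJ2]
  · intro w hw
    rw [hpw, Matrix.toLin'_apply] at hw
    exact hJinj w hw

end Mat

end Cfsg.Agent.H449.Reg
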