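import Cfsg.Agent.H449.Reg.Nineteen
import Cfsg.Agent.H370.Rg.Size

/-!
# S3691: the field `oodd` of `H386.Rg.Inp` (helper449)

Explicit hypotheses: `S5948Stmt`, `S5836Stmt`, `ACase` (`H975.Cov.a_case`), `Small37` (helper2), `Seven` (helper430), `Ex.toFac`.
-/

set_option autoImplicit false
set_option linter.unusedSectionVars false

namespace Cfsg.Agent.H449.Reg

open Module QuadraticMap Cfsg Cfsg.Geo Cfsg.Agent.LieClassical.OrthCore Cfsg.Agent.LieClassical.OrthTrans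
  Cfsg.Agent.H454.Reg Cfsg.Agent.H884.El Cfsg.Agent.H955 Cfsg.Agent.H954.TSing Cfsg.Agent.H193.Dg Cfsg.Agent.H851.Dg
  Cfsg.Agent.OrdDiv Cfsg.Agent.H436
open Cfsg.Agent.LieClassical.OrthForms (oddForm coe_oddForm)

universe u

/-- **`Ω_7(q)`** (helper430) -/
def Seven : Prop := ∀ {F : Type} [Field F] [Fintype F] {G : Type u} [Group G] [Finite G] {T : Subgroup G} [T.Normal]
  {hG : Good (oddForm 3 F)} {eT : T ≃* POmega F (⇑(oddForm 3 F))} {hI : Ind (eP hG eT)} {X Y : Subgroup G} {p f : ℕ},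
  Ctx hI X Y p f 3 → 31 < p ^ f → (∃ v, ResB hI X 3 v) ∨ (∃ v, ResB hI Y 3 v)

theorem isNamed_oodd {T : Type u} [Group T] {F : Type} [Field F] [Fintype F] {m : ℕ} (hm : 3 ≤ m) (hodd : Odd (Fintype.card F))
    (e : T ≃* POmega F (quadFormOdd m F)) : IsNamed (.oodd m (Fintype.card F)) T := by
  have h1 : fOOdd.den m (Fintype.card F) * Nat.card T = fOOdd.num m (Fintype.card F) := by
    rw [Nat.card_congr e.toEquiv]
    exact oodd_eq hm hodd
  refine ⟨⟨F, inferInstance, inferInstance, rfl, ⟨e⟩⟩, ⟨hm, hodd, Fintype.isPrimePow_card_of_field⟩, h1, ?_⟩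
  have h2 : fOOdd.den m (Fintype.card F) = 2 := rfl
  change Nat.card T = fOOdd.num m (Fintype.card F) / fOOdd.den m (Fintype.card F)
  rw [← h1, h2, Nat.mul_div_cancel_left _ two_pos]

/-- **no factorization of `PΩ_{2m+1}(q)`** -/
theorem no_fac_oodd (hP : H659.CovCore.S5948Stmt.{0}) (hR : S5836Stmt) (hA : ACase) (hS : Small37) (h7 : Seven.{u})
    {F : Type} [Field F] [Fintype F] {m : ℕ} (hm : 3 ≤ m) (hodd : Odd (Fintype.card F)) {G : Type u} [Group G] [Finite G]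
    {T X Y : Subgroup G} (hf : Fac T X Y) (hT : Nonempty (T ≃* POmega F (quadFormOdd m F))) : False := by
  obtain ⟨e⟩ := hT
  obtain ⟨h31, h71, -, -⟩ := H370.Rg.oodd_ge hf.large (isNamed_oodd hm hodd e)
  rcases (by omega : m = 3 ∨ m = 4 ∨ 5 ≤ m) with rfl | rfl | h5
  · obtain ⟨p, f, hp, hf1, hF'⟩ := exists_char F
    have hF : Fintype.card F = p ^ f := by rw [← Nat.card_eq_fintype_card]; exact hF'
    have := hf.normal
    obtain ⟨hG, eT, hI, h⟩ := exists_ctx (by norm_num) hp hf1 hF hodd hf ⟨e⟩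
    have h1 : 31 < p ^ f := by rw [← hF]; exact h31 rfl
    refine h.false_of (by norm_num) hodd e ?_
    rcases h7 h h1 with ⟨v, hv⟩ | ⟨v, hv⟩
    · exact ⟨v, Or.inl hv⟩
    · exact ⟨v, Or.inr hv⟩
  · have h8 := h71 rfl
    have h9 : 9 ≤ Fintype.card F := by
      obtain ⟨c, hc⟩ := hodd
      omega
    exact false9 hR hA hodd h9 hf ⟨e⟩
  · by_cases h39 : Fintype.card F = 3 ∧ m = 9
    · obtain ⟨h3, rfl⟩ := h39
      exact false19 hP hS h3 hf ⟨e⟩
    · exact false5 hP h5 hodd h39 hf ⟨e⟩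

/-- **the field `oodd`** -/
theorem row_oodd (hP : H659.CovCore.S5948Stmt.{0}) (hR : S5836Stmt) (hA : ACase) (hS : Small37) (h7 : Seven.{u})
    (hfac : ∀ {G : Type u} [Group G] [Finite G] {T H B : Subgroup G}, Ex T H B → Fac T H B)
    (F : Type) [Field F] [Fintype F] (m : ℕ) (hm : 3 ≤ m) (hodd : Odd (Fintype.card F)) :
    Cfsg.Agent.H454.Reg.Row.{0, u} (POmega F (quadFormOdd m F)) := fun _ _ _ hE hT => (no_fac_oodd hP hR hA hS h7 hm hodd (hfac hE) hT).elim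

end Cfsg.Agent.H449.Reg
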