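import Cfsg.Agent.H449.Reg.Odd

/-!
# S3691, section 5: the main theorem for `m ≥ 5` (helper449)
-/

set_option autoImplicit false
set_option linter.unusedSectionVars false

namespace Cfsg.Agent.H449.Reg

open Module QuadraticMap Cfsg Cfsg.Geo Cfsg.Agent.LieClassical.OrthCore Cfsg.Agent.LieClassical.OrthTrans
  Cfsg.Agent.H454.Reg Cfsg.Agent.H884.El Cfsg.Agent.H955 Cfsg.Agent.H954.TSing Cfsg.Agent.H193.Dg Cfsg.Agent.H851.Dg
open Cfsg.Agent.H951 (fx cm Inv)
open Cfsg.Agent.H278.Cov (Red Ext Num)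
open Cfsg.Agent.LieClassical.OrthFinite (glEquiv glEquiv_apply)
open scoped MatrixGroups Matrix

universe u v

variable {ι : Type} [Fintype ι] [DecidableEq ι] {F : Type v} [Field F] [Fintype F] {Q : QuadraticForm F (ι → F)}
variable {G : Type u} [Group G] [Finite G] {T : Subgroup G} [T.Normal] {hG : Good Q} {eT : T ≃* POmega F (⇑Q)}
  {hI : Ind (eP hG eT)} {X Y : Subgroup G} {p f m : ℕ}

namespace Ctx

theorem elt (h : Ctx hI X Y p f m) {k r a : ℕ} (hr : PP p (f * k) r) (hk : 2 ≤ k) (hmk : 2 * m + 1 < 2 * k)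
    (hd : r ^ a ∣ Nat.card (X.subgroupOf T)) : ∃ g ∈ preG eT X, orderOf g = r ^ a := by
  have h1 := hr.lt (by have := Nat.mul_le_mul h.pos hk; omega)
  have h2 := Nat.mul_le_mul h.pos hk
  exact exists_pow h.data hr.prime (by omega) (h.cyc hr hk hmk) hd

/-- an element of prime order -/
theorem elt1 (h : Ctx hI X Y p f m) {k r : ℕ} (hr : PP p (f * k) r) (hk : 2 ≤ k) (hmk : 2 * m + 1 < 2 * k)
    (hd : r ∣ Nat.card (X.subgroupOf T)) : ∃ g ∈ preG eT X, orderOf g = r := by
  obtain ⟨g, hg, ho⟩ := h.elt (a := 1) hr hk hmk (by rwa [pow_one])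
  exact ⟨g, hg, by rw [ho, pow_one]⟩

theorem ne_one {g : GL ι F} {r : ℕ} (hr : r.Prime) (ho : orderOf g = r) : g ≠ 1 := by
  rintro rfl
  rw [orderOf_one] at ho
  exact hr.one_lt.ne ho

theorem isoOf (h : Ctx hI X Y p f m) {k r : ℕ} (hr : PP p (f * k) r) (hk : 2 ≤ k) {g : GL ι F} (hg : g ∈ preG eT X)
    (ho : orderOf g = r) : Iso Q (lin g) r := by
  have hlin : (lin g) ^ r = 1 := by rw [← H251.GeoCard.toLin_pow, ← ho, pow_orderOf_eq_one]; exact lin_one
  exact Iso.mk' (h.pp hr) hk hlin (lin_iso preG_le hg)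

/-- **the list lemma** for a factor containing a large power of a primitive prime -/
theorem list (h : Ctx hI X Y p f m) (hP : H659.CovCore.S5948Stmt.{v}) (hm : 5 ≤ m) {k : ℕ} (hk : k ≤ 2 * m)
    (hmk : 2 * m + 1 < 2 * k) (hB : Big T X p f k) : Red (preG eT X) ∨ Ext (Nat.gcd (2 * m + 1) k) (preG eT X) := by
  obtain ⟨r, a, hr, hb, hd, hdX⟩ := hB
  obtain ⟨g, hg, ho⟩ := h.elt hr (by omega) hmk hdX
  have hnum := num_of h.prime h.pos hr (n := 2 * m + 1) (by omega) (by omega) hmk hb hd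
  have hF : Fintype.card F = p ^ f := by rw [← Nat.card_eq_fintype_card]; exact h.card
  rcases og_iso hP (k := k) (H884.OddForm.isNondegenerate_of_nondeg _ hG.nondeg) (H := preG eT X)
    (fun x hx => LieClassical.OrthFinite.mem_isometryGroup_iff.1 (preG_le hx)) hg (by rw [h.dim, ho, hF]; exact hnum)
    with h1 | h1 | h1
  · exact Or.inl h1
  · right
    rw [h.dim] at h1
    exact h1
  · exact absurd h1 (not_omega_le h.fac.not_le_left)

/-- **two reducible factors** -/
theorem no_red' (h : Ctx hI X Y p f m) {v : ι → F} (hv : v ≠ 0) (hX : ∀ g ∈ X, act hI g (F ∙ v) = F ∙ v)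
    {k : ℕ} (hk : 5 ≤ k) (hmk : 2 * m + 1 < 2 * k) (hB : Has T Y p f k) (hred : Red (preG eT Y)) : False := by
  obtain ⟨r, hr, hd⟩ := hB
  obtain ⟨y, hy, ho⟩ := h.symm.elt1 hr (by omega) hmk hd
  exact no_red hI h.fac hv hX (h.pp hr) hk (by rw [h.dim]; exact hmk) hy (by rw [← ho, pow_orderOf_eq_one])
    (ne_one hr.prime ho) hred

/-- the data of a fixed point of minus type -/
structure Pt (hI : Ind (eP hG eT)) (X : Subgroup G) (v : ι → F) : Prop where
  ne : Q v ≠ 0
  minus : ¬ IsPlus (res Q (perp Q (F ∙ v)))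
  fix : ∀ x ∈ X, act hI x (F ∙ v) = F ∙ v

/-- **a reducible factor of order divisible by `r_{2m}` fixes a minus point** -/
theorem pt_of_red (h : Ctx hI X Y p f m) (hm : 3 ≤ m) (hH : Has T X p f (2 * m)) (hred : Red (preG eT X)) :
    ∃ v, Pt hI X v := by
  obtain ⟨r, hr, hd⟩ := hH
  obtain ⟨x, hx, ho⟩ := h.elt1 hr (by omega) (by omega) hd
  have hx1 := ne_one hr.prime ho
  have hiso := h.isoOf hr (by omega) hx ho
  have hfin : finrank F (ι → F) = 2 * m + 1 := by rw [Module.finrank_fintype_fun_eq_card, h.dim]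
  obtain ⟨hcm, hmin⟩ := hiso.even_case hG.nondeg (lin_ne_one hx1) (h.pp hr) (even_two_mul m) (by rw [hfin]; omega)
  have hadd := hiso.finrank_add
  obtain ⟨S, hS0, hS, hSX⟩ := red_fixed hI (h.pp hr) (by omega) (by rw [h.dim]; omega) hx
    (by rw [← ho, pow_orderOf_eq_one]) hx1 hred
  have hfx : finrank F (fx (lin x)) = 1 := by omega
  obtain ⟨v, hvS, hv0⟩ := Submodule.exists_mem_ne_zero_of_ne_bot hS0
  have h1 : F ∙ v ≤ S := (Submodule.span_singleton_le_iff_mem v S).2 hvS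
  have h2 : F ∙ v = fx (lin x) := Submodule.eq_of_le_of_finrank_eq (h1.trans hS) (by rw [hfx, finrank_span_singleton hv0])
  have h3 : S = F ∙ v := le_antisymm (by rw [h2]; exact hS) h1
  have h4 : perp Q (F ∙ v) = cm (lin x) := by
    rw [h2, ← perp_cm hG.nondeg hiso.iso hiso.ne0 hiso.pow, perp_perp hG.nondeg]
  refine ⟨v, ?_, by rw [h4]; exact hmin, fun y hy => by rw [← h3]; exact hSX y hy⟩
  intro hQv
  apply hv0
  have h5 : v ∈ perp Q (F ∙ v) := by
    intro z hz
    obtain ⟨c, rfl⟩ := Submodule.mem_span_singleton.1 hz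
    rw [polar_smul_left, polar_self', hQv]
    simp
  rw [h4] at h5
  have h6 : v ∈ fx (lin x) := by rw [← h2]; exact Submodule.mem_span_singleton_self v
  have h7 : v ∈ fx (lin x) ⊓ cm (lin x) := ⟨h6, h5⟩
  rw [(H951.isCompl_fx_cm hiso.ne0 hiso.pow).inf_eq_bot] at h7
  exact (Submodule.mem_bot F).1 h7

theorem stepA (h : Ctx hI X Y p f m) (hP : H659.CovCore.S5948Stmt.{v}) (hm : 5 ≤ m) (hB : Big T X p f (2 * m)) :
    ∃ v, Pt hI X v := by
  rcases h.list hP hm le_rfl (by omega) hB with h1 | ⟨s, K, hs, hsd, -⟩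
  · exact h.pt_of_red (by omega) hB.has h1
  · exfalso
    have h1 := hsd.trans (Nat.gcd_dvd_left _ _)
    have h2 := hsd.trans (Nat.gcd_dvd_right _ _)
    have h3 : s ∣ 1 := (Nat.dvd_add_right h2).1 h1
    exact hs.one_lt.ne' (Nat.dvd_one.1 h3)


section point

variable {v : ι → F}

theorem nondeg_line (h2 : (2 : F) ≠ 0) (hv : Q v ≠ 0) : Nondeg (res Q (F ∙ v)) := by
  rw [nondeg_res_iff]
  intro x hx hxy
  obtain ⟨c, rfl⟩ := Submodule.mem_span_singleton.1 hx
  have h4 := hxy v (Submodule.mem_span_singleton_self v)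
  rw [polar_smul_left, polar_self', smul_eq_mul] at h4
  rcases mul_eq_zero.1 h4 with h5 | h5
  · rw [h5, zero_smul]
  · exact absurd h5 (mul_ne_zero h2 hv)

theorem Pt.ne0 (hv : Pt hI X v) : v ≠ 0 := by
  rintro rfl
  exact hv.ne (QuadraticMap.map_zero Q)

theorem Pt.le (hv : Pt hI X v) : preG eT X ≤ subspaceStabilizer (F ∙ v) := (inv0_iff hG).1 fun _ ht => hv.fix _ ht

theorem Pt.le_perp (hv : Pt hI X v) : preG eT X ≤ subspaceStabilizer (perp Q (F ∙ v)) := stab_perp preG_le hv.le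

theorem Pt.sgn (hv : Pt hI X v) {g : GL ι F} (hg : g ∈ preG eT X) :
    (g : Matrix ι ι F) *ᵥ v = v ∨ (g : Matrix ι ι F) *ᵥ v = -v := by
  have h1 := H884.OmegaGL.mem_subspaceStabilizer.1 (hv.le hg) v (Submodule.mem_span_singleton_self v)
  obtain ⟨c, hc⟩ := Submodule.mem_span_singleton.1 h1
  rw [glEquiv_apply] at hc
  have h2 := preG_le hg
  rw [LieClassical.OrthFinite.mem_isometryGroup_iff] at h2
  have h3 := h2 v
  rw [← hc, QuadraticMap.map_smul, smul_eq_mul] at h3
  have h4 : c * c = 1 := mul_right_cancel₀ hv.ne (by rw [h3, one_mul])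
  rcases mul_self_eq_one_iff.1 h4 with h5 | h5
  · left; rw [← hc, h5, one_smul]
  · right; rw [← hc, h5, neg_one_smul]

theorem Pt.fix_of_odd (h2 : (2 : F) ≠ 0) (hv : Pt hI X v) {g : GL ι F} (hg : g ∈ preG eT X) (ho : Odd (orderOf g)) :
    (g : Matrix ι ι F) *ᵥ v = v := by
  rcases hv.sgn hg with h1 | h1
  · exact h1
  · exfalso
    have h3 : ∀ n : ℕ, ((g ^ n : GL ι F) : Matrix ι ι F) *ᵥ v = (-1 : F) ^ n • v := by
      intro n
      induction n with
      | zero => simp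
      | succ n ih =>
        rw [pow_succ, Units.val_mul, ← Matrix.mulVec_mulVec, h1, Matrix.mulVec_neg, ih, pow_succ]
        simp
    have h4 := h3 (orderOf g)
    rw [pow_orderOf_eq_one, Units.val_one, Matrix.one_mulVec, ho.neg_one_pow] at h4
    have h5 : (2 : F) • v = 0 := by
      rw [two_smul]
      nth_rw 1 [h4]
      simp
    rcases smul_eq_zero.1 h5 with h6 | h6
    · exact h2 h6
    · exact hv.ne0 h6

/-- an element fixing `v` and `v^⊥` pointwise -/
theorem eq_one_of (h2 : (2 : F) ≠ 0) (hv : Q v ≠ 0) {g : GL ι F} (h1 : (g : Matrix ι ι F) *ᵥ v = v)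
    (h3 : ∀ u ∈ perp Q (F ∙ v), (g : Matrix ι ι F) *ᵥ u = u) : g = 1 := by
  apply lin_injective
  rw [lin_one]
  apply LinearMap.ext
  intro y
  have hy : y ∈ (F ∙ v) ⊔ perp Q (F ∙ v) := by rw [(isCompl_perp (nondeg_line h2 hv)).sup_eq_top]; trivial
  obtain ⟨a, ha, b, hb, rfl⟩ := Submodule.mem_sup.1 hy
  obtain ⟨c, rfl⟩ := Submodule.mem_span_singleton.1 ha
  rw [lin, Matrix.toLin'_apply, Matrix.mulVec_add, Matrix.mulVec_smul, h1, h3 b hb]
  rfl

theorem orderOf_rst (h2 : (2 : F) ≠ 0) (hv : Q v ≠ 0) {g : GL ι F} (h1 : (g : Matrix ι ι F) *ᵥ v = v)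
    (hU : g ∈ subspaceStabilizer (perp Q (F ∙ v))) : orderOf (rst g hU) = orderOf g := by
  rw [orderOf_eq_orderOf_iff]
  intro n
  have h3 : ∀ n : ℕ, ((g ^ n : GL ι F) : Matrix ι ι F) *ᵥ v = v := by
    intro n
    induction n with
    | zero => simp
    | succ n ih => rw [pow_succ, Units.val_mul, ← Matrix.mulVec_mulVec, h1, ih]
  constructor
  · intro h4
    refine eq_one_of h2 hv (h3 n) fun u hu => ?_
    rw [← rst_pow g hU n ⟨u, hu⟩, h4]
    rfl
  · intro h4
    apply LinearEquiv.ext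
    intro u
    apply Subtype.ext
    rw [rst_pow, h4, Units.val_one, Matrix.one_mulVec]
    rfl

end point

section block

variable {v : ι → F}

/-- the group induced on `v^⊥` -/
noncomputable abbrev blk (eT : T ≃* POmega F (⇑Q)) (X : Subgroup G) (v : ι → F) :
    Subgroup (perp Q (F ∙ v) ≃ₗ[F] perp Q (F ∙ v)) := resG (perp Q (F ∙ v)) (preG eT X)

theorem odd_of_pp (h : Ctx hI X Y p f m) {k r : ℕ} (hr : PP p (f * k) r) (hk : 2 ≤ k) (a : ℕ) : Odd (r ^ a) := by
  have h1 := hr.lt (by have := Nat.mul_le_mul h.pos hk; omega)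
  have h2 := Nat.mul_le_mul h.pos hk
  exact (hr.prime.odd_of_ne_two (by omega)).pow

theorem finrank_U (h : Ctx hI X Y p f m) (hv : Pt hI X v) : finrank F (perp Q (F ∙ v)) = 2 * m := by
  rw [finrank_perp hG.nondeg, Module.finrank_fintype_fun_eq_card, h.dim, finrank_span_singleton hv.ne0]
  rfl

/-- primitive primes dividing the order of the block -/
theorem dvd_blk (h : Ctx hI X Y p f m) (hv : Pt hI X v) {k r : ℕ} (hr : PP p (f * k) r) (hk : 2 ≤ k) (hmk : 2 * m + 1 < 2 * k)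
    (hd : r ∣ Nat.card (X.subgroupOf T)) : r ∣ Nat.card (blk eT X v) := by
  obtain ⟨x, hx, ho⟩ := h.elt1 hr hk hmk hd
  refine dvd_resG (hv.le_perp hx) hx hr.prime (by rw [← ho, pow_orderOf_eq_one]) fun h1 => ne_one hr.prime ho ?_
  have h2 := orderOf_rst h.two_ne hv.ne (hv.fix_of_odd h.two_ne hx (by
    rw [ho]; simpa using h.odd_of_pp hr hk 1)) (hv.le_perp hx)
  rw [h1, orderOf_one] at h2
  exact orderOf_eq_one_iff.1 h2.symm

/-- the block is irreducible, if `r_{2m}` divides its order -/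
theorem irr_blk (h : Ctx hI X Y p f m) (hm : 1 ≤ m) (hv : Pt hI X v) (hH : Has T X p f (2 * m)) :
    ¬ ∃ W : Submodule F (perp Q (F ∙ v)), W ≠ ⊥ ∧ W ≠ ⊤ ∧ ∀ e ∈ blk eT X v, ∀ w ∈ W, e w ∈ W := by
  rintro ⟨W, hW0, hW1, hW⟩
  obtain ⟨r, hr, hd⟩ := hH
  obtain ⟨x, hx, ho⟩ := h.elt1 hr (by omega) (by omega) hd
  have hx1 := ne_one hr.prime ho
  have hiso := h.isoOf hr (by omega) hx ho
  have hfin : finrank F (ι → F) = 2 * m + 1 := by rw [Module.finrank_fintype_fun_eq_card, h.dim]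
  obtain ⟨hcm, hmin⟩ := hiso.even_case hG.nondeg (lin_ne_one hx1) (h.pp hr) (even_two_mul m) (by rw [hfin]; omega)
  have hadd := hiso.finrank_add
  have hU := h.finrank_U hv
  have h1 : finrank F W < 2 * m := by rw [← hU]; exact Submodule.finrank_lt hW1
  have h2 : finrank F (W.map (perp Q (F ∙ v)).subtype) = finrank F W := Submodule.finrank_map_subtype_eq _ _
  have h3 : Inv (lin x) (W.map (perp Q (F ∙ v)).subtype) := by
    rintro _ ⟨w, hw, rfl⟩
    refine ⟨rst x (hv.le_perp hx) w, hW _ (rst_mem _ hx) w hw, ?_⟩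
    rw [Submodule.subtype_apply, rst_apply, lin, Matrix.toLin'_apply]
    rfl
  have h4 := hiso.le_fx (h.pp hr) h3 (by omega)
  have h5 : F ∙ v ≤ fx (lin x) := hiso.le_fx (h.pp hr) (inv_of_mem (hv.le hx)) (by rw [finrank_span_singleton hv.ne0]; omega)
  have h6 : F ∙ v = fx (lin x) := Submodule.eq_of_le_of_finrank_eq h5 (by rw [finrank_span_singleton hv.ne0]; omega)
  apply hW0
  rw [Submodule.eq_bot_iff]
  intro w hw
  have h7 : (w : ι → F) ∈ F ∙ v := h6.ge (h4 ⟨w, hw, rfl⟩)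
  have h8 : (w : ι → F) ∈ (F ∙ v) ⊓ perp Q (F ∙ v) := ⟨h7, w.2⟩
  rw [(isCompl_perp (nondeg_line h.two_ne hv.ne)).inf_eq_bot] at h8
  exact Subtype.ext ((Submodule.mem_bot F).1 h8)

/-- **the block of a factor fixing a minus point** -/
theorem stepB (h : Ctx hI X Y p f m) (hP : H659.CovCore.S5948Stmt.{v}) (hm : 5 ≤ m) (hv : Pt hI X v)
    (hH : Has T X p f (2 * m)) {k : ℕ} (hk : k ≤ 2 * m) (hmk : 2 * m + 1 < 2 * k) (hB : Big T X p f k)
    (hext : ∀ s, s.Prime → s ∣ Nat.gcd (2 * m) k → ¬ AExt s (blk eT X v)) : ResB hI X m v := by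
  obtain ⟨r, a, hr, hb, hd, hdX⟩ := hB
  obtain ⟨g, hg, ho⟩ := h.elt hr (by omega) hmk hdX
  have hU := h.finrank_U hv
  have hnum := num_of h.prime h.pos hr (n := 2 * m) (by omega) hk (by omega) hb hd
  have hF : Fintype.card F = p ^ f := by rw [← Nat.card_eq_fintype_card]; exact h.card
  have hgv := hv.fix_of_odd h.two_ne hg (by rw [ho]; exact h.odd_of_pp hr (by omega) a)
  have hnd : Nondeg (res Q (perp Q (F ∙ v))) := nondeg_perp hG.nondeg (nondeg_line h.two_ne hv.ne)
  rcases og_abs hP hnd (resG_le_O (U := perp Q (F ∙ v)) (preG_le (eT := eT) (X := X))) (rst_mem (hv.le_perp hg) hg) (k := k)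
    (by rw [orderOf_rst h.two_ne hv.ne hgv, ho, hU, hF]; exact hnum) with h1 | ⟨s, hs, hsd, h1⟩ | h1
  · exact (h.irr_blk (by omega) hv hH h1).elim
  · rw [hU] at hsd
    exact (hext s hs hsd h1).elim
  · have hGU : Good (res Q (perp Q (F ∙ v))) := LieClassical.OrthFinite.good_of_finite hnd (by rw [hU]; omega)
    exact ⟨h.dim, hv.ne, hv.minus, hv.fix, fun u w hu hw huv hwv =>
      sieg_of hv.ne h.two_ne preG_le (fun g hg => hv.sgn hg) hGU h1 hu hw huv hwv⟩

/-- no quadratic extension of the block -/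
theorem no_two (h : Ctx hI X Y p f m) (hm : 1 ≤ m) (hv : Pt hI X v) (hH : Has T X p f (2 * m)) {i : ℕ}
    (hmk : 2 * m + 1 < 2 * (2 * i)) (hi : Odd (m + i)) (hHi : Has T X p f (2 * i)) : ¬ AExt 2 (blk eT X v) := by
  intro hA
  obtain ⟨r, hr, hd⟩ := hH
  obtain ⟨s, hs, hds⟩ := hHi
  have hnd : Nondeg (res Q (perp Q (F ∙ v))) := nondeg_perp hG.nondeg (nondeg_line h.two_ne hv.ne)
  exact hA.not_two hnd (resG_le_O (U := perp Q (F ∙ v)) (preG_le (eT := eT) (X := X))) (h.pp hr) (h.pp hs) (h.finrank_U hv)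
    (even_two_mul m) (even_two_mul i) (by omega) (by omega)
    (by rw [Nat.mul_div_cancel_left _ two_pos, Nat.mul_div_cancel_left _ two_pos]; exact hi)
    (h.dvd_blk hv hr (by omega) (by omega) hd) (h.dvd_blk hv hs (by omega) hmk hds)

end block

/-- the primes of a prime divisor of `gcd (2 m) (2 i)`, `i = m - 1` or `m - 2` -/
theorem eq_two_of_gcd {s m i : ℕ} (hs : s.Prime) (hd : s ∣ Nat.gcd (2 * m) (2 * i)) (hi : i + 1 = m ∨ i + 2 = m) : s = 2 := by
  have h1 := hd.trans (Nat.gcd_dvd_left _ _)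
  have h2 := hd.trans (Nat.gcd_dvd_right _ _)
  have h3 : s ∣ 2 * m - 2 * i := Nat.dvd_sub h1 h2
  have h4 : s ∣ 2 ^ 2 := by
    rcases hi with rfl | rfl
    · have : 2 * (i + 1) - 2 * i = 2 := by omega
      rw [this] at h3
      exact h3.trans (by norm_num)
    · have : 2 * (i + 2) - 2 * i = 2 ^ 2 := by omega
      rw [this] at h3
      exact h3
  exact (Nat.prime_dvd_prime_iff_eq hs Nat.prime_two).1 (hs.dvd_of_dvd_pow h4)

/-- an extension field kills elements of prime order with the wrong fixed space -/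
theorem ext_dvd (h : Ctx hI X Y p f m) {s : ℕ} (hs : s.Prime) {K : Subalgebra F (Matrix ι ι F)} (hK : IsFieldSubalgebra s K)
    (hle : preG eT X ≤ subalgebraNormalizer K) {i : ℕ} (hi : 2 ≤ 2 * i) (hmi : 2 * m + 1 < 2 * (2 * i)) (him : i ≤ m)
    (hsi : s ≤ 2 * i) (hH : Has T X p f (2 * i)) : s ∣ 2 * m + 1 - 2 * i := by
  obtain ⟨r, hr, hd⟩ := hH
  obtain ⟨x, hx, ho⟩ := h.elt1 hr hi hmi hd
  have hx1 := ne_one hr.prime ho
  have hiso := h.isoOf hr hi hx ho
  have hfin : finrank F (ι → F) = 2 * m + 1 := by rw [Module.finrank_fintype_fun_eq_card, h.dim]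
  obtain ⟨hcm, -⟩ := hiso.even_case hG.nondeg (lin_ne_one hx1) (h.pp hr) (even_two_mul i) (by rw [hfin]; omega)
  have hadd := hiso.finrank_add
  have h1 := hr.lt (by have := Nat.mul_le_mul h.pos hi; omega)
  have h2 : 1 * (2 * i) ≤ f * (2 * i) := Nat.mul_le_mul_right _ h.pos
  have hne : r ≠ s := by omega
  have h3 := H906.Cov.ext_dvd hs hK (t := x) (hle hx)
    (by rw [ho]; exact (Nat.coprime_primes hr.prime hs).2 hne) (Polynomial.X - 1)
  have h4 : LinearMap.ker (Polynomial.aeval (Matrix.toLin' (x : Matrix ι ι F)) (Polynomial.X - 1 : Polynomial F)) = fx (lin x) := by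
    ext w
    rw [map_sub, Polynomial.aeval_X, map_one, LinearMap.mem_ker, LinearMap.sub_apply, sub_eq_zero]
    exact H951.mem_fx.symm
  rw [h4] at h3
  have h5 : finrank F (fx (lin x)) = 2 * m + 1 - 2 * i := by omega
  rwa [h5] at h3

/-- **a factor fixing a minus point; the other one contains `r_{2m-2}`** -/
theorem point_case (h : Ctx hI X Y p f m) (hP : H659.CovCore.S5948Stmt.{v}) (hm : 5 ≤ m) {v : ι → F} (hv : Pt hI X v)
    (hH : Has T X p f (2 * m)) (hL1 : LP p f (2 * (m - 1))) (hL2 : 3 ∣ 2 * m + 1 → LP p f (2 * (m - 2))) : ResB hI X m v := by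
  rcases h.big_side (i := m - 1) (by omega) (by omega) (by omega) hL1 with hB | hB
  · refine h.stepB hP hm hv hH (k := 2 * (m - 1)) (by omega) (by omega) hB fun s hs hd => ?_
    rw [eq_two_of_gcd hs hd (Or.inl (by omega))]
    exact h.no_two (by omega) hv hH (i := m - 1) (by omega) ⟨m - 1, by omega⟩ hB.has
  · rcases h.symm.list hP hm (k := 2 * (m - 1)) (by omega) (by omega) hB with h1 | ⟨s, K, hs, hsd, hK, hle⟩
    · exact (h.no_red' hv.ne0 hv.fix (by omega) (by omega) hB.has h1).elim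
    · -- `s = 3`
      have h1 := hsd.trans (Nat.gcd_dvd_left _ _)
      have h2 := hsd.trans (Nat.gcd_dvd_right _ _)
      have h3 : s ∣ 2 * m + 1 - 2 * (m - 1) := Nat.dvd_sub h1 h2
      have h4 : 2 * m + 1 - 2 * (m - 1) = 3 := by omega
      rw [h4] at h3
      obtain rfl : s = 3 := (Nat.prime_dvd_prime_iff_eq hs Nat.prime_three).1 h3
      have hm7 : 7 ≤ m := by
        obtain ⟨c, hc⟩ := h1
        omega
      have hY : ∀ i, (i + 2 = m ∨ i + 3 = m) → ¬ Has T Y p f (2 * i) := by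
        intro i hi hHi
        have h5 := h.symm.ext_dvd hs hK hle (i := i) (by omega) (by omega) (by omega) (by omega) hHi
        obtain ⟨c, hc⟩ := h5
        omega
      have hB2 : Big T X p f (2 * (m - 2)) := by
        rcases h.big_side (i := m - 2) (by omega) (by omega) (by omega) (hL2 h1) with h5 | h5
        · exact h5
        · exact (hY (m - 2) (Or.inl (by omega)) h5.has).elim
      have hH3 : Has T X p f (2 * (m - 3)) := by
        rcases h.has_side (i := m - 3) (by omega) (by omega) (by omega) with h5 | h5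
        · exact h5
        · exact (hY (m - 3) (Or.inr (by omega)) h5).elim
      refine h.stepB hP hm hv hH (k := 2 * (m - 2)) (by omega) (by omega) hB2 fun s hs hd => ?_
      rw [eq_two_of_gcd hs hd (Or.inr (by omega))]
      exact h.no_two (by omega) hv hH (i := m - 3) (by omega) ⟨m - 2, by omega⟩ hH3

/-- **`Ω_{2m+1}(q)`, `m ≥ 5`**: only the residual case remains -/
theorem main5 (h : Ctx hI X Y p f m) (hP : H659.CovCore.S5948Stmt.{v}) (hm : 5 ≤ m) (hL0 : LP p f (2 * m))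
    (hL1 : LP p f (2 * (m - 1))) (hL2 : 3 ∣ 2 * m + 1 → LP p f (2 * (m - 2))) : ∃ v, ResB hI X m v ∨ ResB hI Y m v := by
  rcases h.big_side (i := m) (by omega) le_rfl (by omega) hL0 with hB | hB
  · obtain ⟨v, hv⟩ := h.stepA hP hm hB
    exact ⟨v, Or.inl (h.point_case hP hm hv hB.has hL1 hL2)⟩
  · obtain ⟨v, hv⟩ := h.symm.stepA hP hm hB
    exact ⟨v, Or.inr (h.symm.point_case hP hm hv hB.has hL1 hL2)⟩

/-- **`m = 10`** (needed for `q = 3`, where there is no large primitive prime power of order `18`) -/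
theorem point_case10 (h : Ctx hI X Y p f 10) (hP : H659.CovCore.S5948Stmt.{v}) {v : ι → F} (hv : Pt hI X v)
    (hH : Has T X p f 20) (hL1 : LP p f 16) (hL2 : LP p f 14) : ResB hI X 10 v := by
  have hB : Big T X p f 16 := by
    rcases h.big_side (i := 8) (by omega) (by omega) (by omega) hL1 with hB | hB
    · exact hB
    · rcases h.symm.list hP (by omega) (k := 16) (by omega) (by omega) hB with h1 | ⟨s, K, hs, hsd, hK, hle⟩
      · exact (h.no_red' hv.ne0 hv.fix (k := 16) (by omega) (by omega) hB.has h1).elim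
      · exfalso
        have h3 : s ∣ 1 := by
          have h4 : Nat.gcd (2 * 10 + 1) 16 = 1 := by norm_num
          rwa [h4] at hsd
        exact hs.one_lt.ne' (Nat.dvd_one.1 h3)
  rcases h.big_side (i := 7) (by omega) (by omega) (by omega) hL2 with hB2 | hB2
  · refine h.stepB hP (by omega) hv hH (k := 14) (by omega) (by omega) hB2 fun s hs hd => ?_
    have h4 : Nat.gcd (2 * 10) 14 = 2 := by norm_num
    rw [h4] at hd
    rw [(Nat.prime_dvd_prime_iff_eq hs Nat.prime_two).1 hd]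
    exact h.no_two (by omega) hv hH (i := 7) (by omega) ⟨8, by omega⟩ hB2.has
  · rcases h.symm.list hP (by omega) (k := 14) (by omega) (by omega) hB2 with h1 | ⟨s, K, hs, hsd, hK, hle⟩
    · exact (h.no_red' hv.ne0 hv.fix (k := 14) (by omega) (by omega) hB2.has h1).elim
    · have h4 : Nat.gcd (2 * 10 + 1) 14 = 7 := by norm_num
      rw [h4] at hsd
      obtain rfl : s = 7 := (Nat.prime_dvd_prime_iff_eq hs (by norm_num)).1 hsd
      have hH18 : Has T X p f (2 * 9) := by
        rcases h.has_side (i := 9) (by omega) (by omega) (by omega) with h5 | h5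
        · exact h5
        · exfalso
          have h6 := h.symm.ext_dvd hs hK hle (i := 9) (by omega) (by omega) (by omega) (by omega) h5
          norm_num at h6
      refine h.stepB hP (by omega) hv hH (k := 16) (by omega) (by omega) hB fun s hs hd => ?_
      have h4 : Nat.gcd (2 * 10) 16 = 2 ^ 2 := by norm_num
      rw [h4] at hd
      rw [(Nat.prime_dvd_prime_iff_eq hs Nat.prime_two).1 (hs.dvd_of_dvd_pow hd)]
      exact h.no_two (by omega) hv hH (i := 9) (by omega) ⟨9, by omega⟩ hH18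

theorem main10 (h : Ctx hI X Y p f 10) (hP : H659.CovCore.S5948Stmt.{v}) (hL0 : LP p f 20)
    (hL1 : LP p f 16) (hL2 : LP p f 14) : ∃ v, ResB hI X 10 v ∨ ResB hI Y 10 v := by
  rcases h.big_side (i := 10) (by omega) le_rfl (by omega) hL0 with hB | hB
  · obtain ⟨v, hv⟩ := h.stepA hP (by omega) hB
    exact ⟨v, Or.inl (h.point_case10 hP hv hB.has hL1 hL2)⟩
  · obtain ⟨v, hv⟩ := h.symm.stepA hP (by omega) hB
    exact ⟨v, Or.inr (h.symm.point_case10 hP hv hB.has hL1 hL2)⟩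

end Ctx

end Cfsg.Agent.H449.Reg
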