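import Cfsg.Agent.H449.Reg.Types
import Cfsg.Agent.H449.Reg.Pre
import Cfsg.Agent.H278.Cov.ClDefs

/-!
# S3691: subspaces fixed by a factor, and restriction to an invariant subspace (helper449)

* `red_fixed` : a factor `X` whose `preG` is reducible and contains an element `x` of prime order `r`, `ord_r(q) > n / 2`, fixes a
  nonzero subspace of `C_V(x)`
* `exists_norm` : a nondegenerate space of dimension at least five contains nonzero vectors of every norm
* `no_two_red` : not both factors are reducible, if one of them fixes a point `⟨v⟩`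
* `rst`, `resG` : restriction to an invariant subspace; `sieg_of` : if the restriction to `v^⊥` contains `Ω(v^⊥)`, the group contains
  the Siegel transformations supported by `v^⊥`.
-/

set_option autoImplicit false
set_option linter.unusedSectionVars false

namespace Cfsg.Agent.H449.Reg

open Module QuadraticMap Cfsg Cfsg.Geo Cfsg.Agent.LieClassical.OrthCore Cfsg.Agent.LieClassical.OrthTrans
  Cfsg.Agent.H454.Reg Cfsg.Agent.H884.El Cfsg.Agent.H955 Cfsg.Agent.H954.TSing
open Cfsg.Agent.H951 (fx cm Inv)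
open Cfsg.Agent.H278.Cov (Red)
open Cfsg.Agent.LieClassical.OrthFinite (glEquiv glEquiv_apply)
open scoped MatrixGroups Matrix

universe u v

section perp

variable {ι : Type} [Fintype ι] [DecidableEq ι] {F : Type v} [Field F] {Q : QuadraticForm F (ι → F)}
  {H : Subgroup (GL ι F)}

theorem stab_perp (hH : H ≤ isometryGroup F (⇑Q)) {W : Submodule F (ι → F)} (hW : H ≤ subspaceStabilizer W) :
    H ≤ subspaceStabilizer (perp Q W) := by
  intro g hg
  refine H884.OmegaGL.mem_subspaceStabilizer.2 fun w hw u hu => ?_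
  have hg' := hH hg
  rw [LieClassical.OrthFinite.mem_isometryGroup_iff] at hg'
  have hpol : ∀ a b : ι → F, polar Q ((g : Matrix ι ι F).mulVec a) ((g : Matrix ι ι F).mulVec b) = polar Q a b := by
    intro a b
    simp only [polar, ← Matrix.mulVec_add, hg']
  have h1 : glEquiv ι F g⁻¹ u ∈ W := H884.OmegaGL.mem_subspaceStabilizer.1 (hW (H.inv_mem hg)) u hu
  have h2 : u = (g : Matrix ι ι F).mulVec (glEquiv ι F g⁻¹ u) := by
    rw [← glEquiv_apply]
    change u = (glEquiv ι F g * glEquiv ι F g⁻¹) u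
    rw [← map_mul, mul_inv_cancel, map_one]
    rfl
  rw [glEquiv_apply, h2, hpol]
  exact hw _ h1

end perp

section norm

variable {F : Type v} [Field F] {V : Type*} [AddCommGroup V] [Module F V] {Q : QuadraticForm F V}

theorem exists_norm_good (hG : Good Q) (c : F) : ∃ w : V, w ≠ 0 ∧ Q w = c := by
  obtain ⟨x, y, hxy⟩ := hG.exists_hyp
  refine ⟨x + c • y, ?_, ?_⟩
  · intro h0
    have h1 : polar Q (x + c • y) y = 1 := by
      rw [polar_add_left, polar_smul_left, hxy.pair, hxy.polar_right, smul_zero, add_zero]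
    rw [h0, polar_zero_left] at h1
    exact zero_ne_one h1
  · rw [Q_add, QuadraticMap.map_smul, hxy.left, hxy.right, polar_smul_right, hxy.pair]
    simp

theorem exists_norm [Finite F] [FiniteDimensional F V] {W : Submodule F V} (hW : Nondeg (res Q W)) (h5 : 5 ≤ finrank F W)
    (c : F) : ∃ w ∈ W, w ≠ 0 ∧ Q w = c := by
  obtain ⟨w, hw0, hw⟩ := exists_norm_good (LieClassical.OrthFinite.good_of_finite hW h5) c
  exact ⟨w, w.2, fun h => hw0 (Subtype.ext h), hw⟩

end norm

section fixed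

variable {ι : Type} [Fintype ι] [DecidableEq ι] {F : Type v} [Field F] [Fintype F] {Q : QuadraticForm F (ι → F)}
variable {G : Type u} [Group G] {T : Subgroup G} [T.Normal] {hG : Good Q} {eT : T ≃* POmega F (⇑Q)}
  (hI : Ind (eP hG eT)) {X Y : Subgroup G} {k l r s : ℕ}

/-- **a reducible factor fixes a subspace** -/
theorem red_fixed (hr : PP (Nat.card F) k r) (hk : 2 ≤ k) (hn : Fintype.card ι < 2 * k) {x : GL ι F}
    (hx : x ∈ preG eT X) (hxr : x ^ r = 1) (hx1 : x ≠ 1) (hred : Red (preG eT X)) :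
    ∃ S : Submodule F (ι → F), S ≠ ⊥ ∧ S ≤ fx (lin x) ∧ ∀ g ∈ X, act hI g S = S := by
  have hlin : (lin x) ^ r = 1 := by rw [← H251.GeoCard.toLin_pow, hxr]; exact lin_one
  obtain ⟨-, hcm, hor, -⟩ := elt_data hr hk hn hlin (lin_ne_one hx1)
  have hiso : Iso Q (lin x) r := Iso.mk' hr hk hlin (lin_iso preG_le hx)
  have hadd := hiso.finrank_add
  have hfin : finrank F (ι → F) = Fintype.card ι := Module.finrank_fintype_fun_eq_card F
  have key : ∀ W : Submodule F (ι → F), preG eT X ≤ subspaceStabilizer W → W ≤ fx (lin x) ∨ cm (lin x) ≤ W :=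
    fun W hW => hor W (inv_of_mem (hW hx))
  refine exists_fixed hG hI (k := k) (D := fx (lin x)) ?_ ?_
  · intro W hW hWk
    rcases key W ((inv0_iff hG).1 hW) with h | h
    · exact h
    · have := Submodule.finrank_mono h
      omega
  · obtain ⟨W, hW0, hW1, hW⟩ := hred
    rcases key W hW with h | h
    · refine ⟨W, (inv0_iff hG).2 hW, ?_, hW0⟩
      have := Submodule.finrank_mono h
      omega
    · refine ⟨perp Q W, (inv0_iff hG).2 (stab_perp preG_le hW), ?_, ?_⟩
      · have h1 := finrank_perp hG.nondeg W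
        have := Submodule.finrank_mono h
        omega
      · intro h0
        apply hW1
        rw [← perp_perp hG.nondeg W, h0, perp_bot]

/-- **a factor fixing a point, and a reducible factor** -/
theorem no_red [Finite G] (hf : Fac T X Y) {v : ι → F} (hv : v ≠ 0) (hX : ∀ g ∈ X, act hI g (F ∙ v) = F ∙ v)
    (hs : PP (Nat.card F) l s) (hl : 5 ≤ l) (hn : Fintype.card ι < 2 * l) {y : GL ι F} (hy : y ∈ preG eT Y)
    (hys : y ^ s = 1) (hy1 : y ≠ 1) (hred : Red (preG eT Y)) : False := by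
  obtain ⟨S, hS0, hS, hSY⟩ := red_fixed hI hs (by omega) hn hy hys hy1 hred
  have hlin : (lin y) ^ s = 1 := by rw [← H251.GeoCard.toLin_pow, hys]; exact lin_one
  obtain ⟨-, hcm, -, -⟩ := elt_data hs (by omega) hn hlin (lin_ne_one hy1)
  have hiso : Iso Q (lin y) s := Iso.mk' hs (by omega) hlin (lin_iso preG_le hy)
  obtain ⟨w, hw, hw0, hwv⟩ := exists_norm (nondeg_cm hG.nondeg hiso.iso hiso.ne0 hiso.pow) (by omega) (Q v)
  refine no_common hG hI hf hv hX hS0 hSY hw0 hwv fun s' hs' => ?_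
  have h1 : s' ∈ perp Q (cm (lin y)) := by
    rw [perp_cm hG.nondeg hiso.iso hiso.ne0 hiso.pow]
    exact hS hs'
  rw [polar_comm]
  exact h1 w hw

end fixed

section res

variable {ι : Type} [Fintype ι] [DecidableEq ι] {F : Type v} [Field F] {Q : QuadraticForm F (ι → F)}
  {H : Subgroup (GL ι F)} {U : Submodule F (ι → F)}

/-- restriction of a matrix to an invariant subspace -/
noncomputable def rst (h : GL ι F) (hh : h ∈ subspaceStabilizer U) : U ≃ₗ[F] U :=
  LinearEquiv.ofBijective ((lin h).restrict (inv_of_mem hh)) (by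
    have hinj : Function.Injective ((lin h).restrict (inv_of_mem hh)) := by
      intro a b hab
      have h1 : lin h a = lin h b := congrArg Subtype.val hab
      apply Subtype.ext
      have h2 : glEquiv ι F h a = glEquiv ι F h b := h1
      exact (glEquiv ι F h).injective h2
    exact ⟨hinj, LinearMap.injective_iff_surjective.1 hinj⟩)

theorem rst_apply (h : GL ι F) (hh : h ∈ subspaceStabilizer U) (u : U) :
    ((rst h hh u : U) : ι → F) = (h : Matrix ι ι F) *ᵥ (u : ι → F) := rfl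

theorem rst_pow (h : GL ι F) (hh : h ∈ subspaceStabilizer U) (n : ℕ) (u : U) :
    ((((rst h hh) ^ n : U ≃ₗ[F] U) u : U) : ι → F) = ((h ^ n : GL ι F) : Matrix ι ι F) *ᵥ (u : ι → F) := by
  induction n with
  | zero => simp
  | succ n ih =>
    rw [pow_succ', pow_succ', Units.val_mul, ← Matrix.mulVec_mulVec, ← ih]
    rfl

/-- the restriction of a group to a subspace -/
def resG (U : Submodule F (ι → F)) (H : Subgroup (GL ι F)) : Subgroup (U ≃ₗ[F] U) where
  carrier := {e | ∃ h ∈ H, ∀ u : U, ((e u : U) : ι → F) = (h : Matrix ι ι F) *ᵥ (u : ι → F)}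
  mul_mem' := by
    rintro a b ⟨h, hh, ha⟩ ⟨k, hk, hb⟩
    refine ⟨h * k, H.mul_mem hh hk, fun u => ?_⟩
    rw [Units.val_mul, ← Matrix.mulVec_mulVec, ← hb, ← ha]
    rfl
  one_mem' := ⟨1, H.one_mem, fun u => by rw [Units.val_one, Matrix.one_mulVec]; rfl⟩
  inv_mem' := by
    rintro a ⟨h, hh, ha⟩
    refine ⟨h⁻¹, H.inv_mem hh, fun u => ?_⟩
    have h1 := ha (a⁻¹ u)
    have h2 : a (a⁻¹ u) = u := by
      change (a * a⁻¹) u = u
      rw [mul_inv_cancel]; rfl
    rw [h2] at h1
    rw [h1, Matrix.mulVec_mulVec, ← Units.val_mul, inv_mul_cancel, Units.val_one, Matrix.one_mulVec]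

theorem rst_mem {h : GL ι F} (hh : h ∈ subspaceStabilizer U) (hH : h ∈ H) : rst h hh ∈ resG U H := ⟨h, hH, fun _ => rfl⟩

theorem resG_le_O (hH : H ≤ isometryGroup F (⇑Q)) : resG U H ≤ O (res Q U) := by
  rintro e ⟨h, hh, he⟩
  rw [mem_O]
  intro u
  have h1 := hH hh
  rw [LieClassical.OrthFinite.mem_isometryGroup_iff] at h1
  rw [res_apply, res_apply, he, h1]

theorem dvd_resG [Finite F] {h : GL ι F} (hh : h ∈ subspaceStabilizer U) (hH : h ∈ H) {r : ℕ} (hr : r.Prime) (hhr : h ^ r = 1)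
    (hne : rst h hh ≠ 1) : r ∣ Nat.card (resG U H) := by
  have := Fact.mk hr
  have h1 : (rst h hh) ^ r = 1 := by
    apply LinearEquiv.ext
    intro u
    apply Subtype.ext
    rw [rst_pow, hhr, Units.val_one, Matrix.one_mulVec]
    rfl
  have h2 : orderOf (rst h hh) = r := orderOf_eq_prime h1 hne
  have h3 : orderOf (⟨rst h hh, rst_mem hh hH⟩ : resG U H) = r := by rw [← Subgroup.orderOf_coe]; exact h2
  rw [← h3]
  have hfin : Finite (U ≃ₗ[F] U) := by
    have : Finite U := inferInstance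
    exact Finite.of_injective (fun e : U ≃ₗ[F] U => (e : U → U)) DFunLike.coe_injective
  exact orderOf_dvd_natCard _

/-- **the Siegel transformations supported by `v^⊥`** -/
theorem sieg_of {v : ι → F} (hv : Q v ≠ 0) (h2 : (2 : F) ≠ 0) (hH : H ≤ isometryGroup F (⇑Q))
    (hHv : ∀ h ∈ H, (h : Matrix ι ι F) *ᵥ v = v ∨ (h : Matrix ι ι F) *ᵥ v = -v)
    (hGU : Good (res Q (perp Q (F ∙ v)))) (hE : E (res Q (perp Q (F ∙ v))) ≤ resG (perp Q (F ∙ v)) H)
    {u w : ι → F} (hu : Q u = 0) (hw : polar Q u w = 0) (huv : polar Q u v = 0) (hwv : polar Q w v = 0) :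
    (glEquiv ι F).symm (siegel Q u w hu hw) ∈ H := by
  set U := perp Q (F ∙ v) with hU
  have hmemU : ∀ {y : ι → F}, polar Q y v = 0 → y ∈ U := by
    intro y hy z hz
    obtain ⟨c, rfl⟩ := Submodule.mem_span_singleton.1 hz
    rw [polar_smul_left, polar_comm, hy, smul_zero]
  -- the pointwise stabiliser of `v`
  let H1 : Subgroup (GL ι F) :=
    { carrier := {h | h ∈ H ∧ (h : Matrix ι ι F) *ᵥ v = v}
      mul_mem' := by
        rintro a b ⟨ha, ha'⟩ ⟨hb, hb'⟩
        exact ⟨H.mul_mem ha hb, by rw [Units.val_mul, ← Matrix.mulVec_mulVec, hb', ha']⟩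
      one_mem' := ⟨H.one_mem, by rw [Units.val_one, Matrix.one_mulVec]⟩
      inv_mem' := by
        rintro a ⟨ha, ha'⟩
        refine ⟨H.inv_mem ha, ?_⟩
        conv_lhs => rw [← ha']
        rw [Matrix.mulVec_mulVec, ← Units.val_mul, inv_mul_cancel, Units.val_one, Matrix.one_mulVec] }
  have hinv : ∀ h ∈ H, (h : Matrix ι ι F) *ᵥ v = v → ((h⁻¹ : GL ι F) : Matrix ι ι F) *ᵥ v = v := by
    intro h _ h1
    conv_lhs => rw [← h1]
    rw [Matrix.mulVec_mulVec, ← Units.val_mul, inv_mul_cancel, Units.val_one, Matrix.one_mulVec]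
  have hinv' : ∀ h ∈ H, (h : Matrix ι ι F) *ᵥ v = -v → ((h⁻¹ : GL ι F) : Matrix ι ι F) *ᵥ v = -v := by
    intro h _ h1
    have h3 : ((h⁻¹ : GL ι F) : Matrix ι ι F) *ᵥ ((h : Matrix ι ι F) *ᵥ v) = v := by
      rw [Matrix.mulVec_mulVec, ← Units.val_mul, inv_mul_cancel, Units.val_one, Matrix.one_mulVec]
    rw [h1, Matrix.mulVec_neg] at h3
    exact neg_eq_iff_eq_neg.1 h3
  have hcomm : ⁅resG U H, resG U H⁆ ≤ resG U H1 := by
    rw [Subgroup.commutator_le]
    rintro a ⟨h, hh, ha⟩ b ⟨k, hk, hb⟩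
    refine ⟨h * k * h⁻¹ * k⁻¹, ⟨H.mul_mem (H.mul_mem (H.mul_mem hh hk) (H.inv_mem hh)) (H.inv_mem hk), ?_⟩, fun u => ?_⟩
    · rw [Units.val_mul, Units.val_mul, Units.val_mul, ← Matrix.mulVec_mulVec,
        ← Matrix.mulVec_mulVec, ← Matrix.mulVec_mulVec]
      rcases hHv h hh with h4 | h4 <;> rcases hHv k hk with h5 | h5
      · rw [hinv k hk h5, hinv h hh h4, h5, h4]
      · rw [hinv' k hk h5, Matrix.mulVec_neg, hinv h hh h4, Matrix.mulVec_neg, h5, neg_neg, h4]
      · rw [hinv k hk h5, hinv' h hh h4, Matrix.mulVec_neg, h5, Matrix.mulVec_neg, h4, neg_neg]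
      · rw [hinv' k hk h5, Matrix.mulVec_neg, hinv' h hh h4, neg_neg, h5, Matrix.mulVec_neg, h4, neg_neg]
    · have ha' : ∀ u : U, ((a⁻¹ u : U) : ι → F) = ((h⁻¹ : GL ι F) : Matrix ι ι F) *ᵥ (u : ι → F) := by
        intro u
        have h1 := ha (a⁻¹ u)
        have h2 : a (a⁻¹ u) = u := by
          change (a * a⁻¹) u = u
          rw [mul_inv_cancel]; rfl
        rw [h2] at h1
        rw [h1, Matrix.mulVec_mulVec, ← Units.val_mul, inv_mul_cancel, Units.val_one, Matrix.one_mulVec]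
      have hb' : ∀ u : U, ((b⁻¹ u : U) : ι → F) = ((k⁻¹ : GL ι F) : Matrix ι ι F) *ᵥ (u : ι → F) := by
        intro u
        have h1 := hb (b⁻¹ u)
        have h2 : b (b⁻¹ u) = u := by
          change (b * b⁻¹) u = u
          rw [mul_inv_cancel]; rfl
        rw [h2] at h1
        rw [h1, Matrix.mulVec_mulVec, ← Units.val_mul, inv_mul_cancel, Units.val_one, Matrix.one_mulVec]
      rw [commutatorElement_def, Units.val_mul, Units.val_mul, Units.val_mul,
        ← Matrix.mulVec_mulVec, ← Matrix.mulVec_mulVec, ← Matrix.mulVec_mulVec]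
      change ((a (b (a⁻¹ (b⁻¹ u))) : U) : ι → F) = _
      rw [ha, hb, ha', hb']
  have hE1 : E (res Q U) ≤ resG U H1 := by
    rw [← hGU.E_perfect]
    exact (Subgroup.commutator_mono hE hE).trans hcomm
  set u' : U := ⟨u, hmemU huv⟩ with hu'
  set w' : U := ⟨w, hmemU hwv⟩ with hw'
  have hu1 : res Q U u' = 0 := hu
  have hw1 : polar (res Q U) u' w' = 0 := hw
  obtain ⟨h, ⟨hh, hhv⟩, hhe⟩ := hE1 (siegel_mem_E hu1 hw1)
  have h3 : glEquiv ι F h = siegel Q u w hu hw := by
    apply LinearEquiv.ext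
    intro y
    -- decompose `y`
    have hnd : Nondeg (res Q (F ∙ v)) := by
      rw [nondeg_res_iff]
      intro x hx hxy
      obtain ⟨c, rfl⟩ := Submodule.mem_span_singleton.1 hx
      have h4 := hxy v (Submodule.mem_span_singleton_self v)
      rw [polar_smul_left, polar_self', smul_eq_mul] at h4
      rcases mul_eq_zero.1 h4 with h5 | h5
      · rw [h5, zero_smul]
      · exact absurd h5 (mul_ne_zero h2 hv)
    have hy : y ∈ (F ∙ v) ⊔ U := by rw [(isCompl_perp hnd).sup_eq_top]; trivial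
    obtain ⟨a, ha, b, hb, rfl⟩ := Submodule.mem_sup.1 hy
    obtain ⟨c, rfl⟩ := Submodule.mem_span_singleton.1 ha
    rw [map_add, map_add]
    congr 1
    · rw [map_smul, map_smul, glEquiv_apply, hhv, siegel_apply, huv, hwv]
      simp
    · have h4 := hhe ⟨b, hb⟩
      rw [glEquiv_apply]
      rw [← h4, siegel_apply, siegel_apply]
      rfl
  rw [← h3, MulEquiv.symm_apply_apply]
  exact hh

end res

end Cfsg.Agent.H449.Reg
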