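import Cfsg.Agent.H449.Reg.NineA
import Cfsg.Agent.H975.Cov.Num
import Cfsg.Agent.S5835
import Cfsg.Agent.S2119
import Cfsg.Agent.S0813

/-!
# S3691, section 5: `Ω_9(q)`: maximal subgroups containing elements of large primitive order (helper449)
-/

set_option autoImplicit false
set_option linter.unusedSectionVars false

namespace Cfsg.Agent.H449.Reg

open Module QuadraticMap Cfsg Cfsg.Geo Cfsg.Agent.LieClassical.OrthCore Cfsg.Agent.LieClassical.OrthTrans
  Cfsg.Agent.H454.Reg Cfsg.Agent.H884.El Cfsg.Agent.H955 Cfsg.Agent.H954.TSing Cfsg.Agent.H193.Dg Cfsg.Agent.H851.Dg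
open Cfsg.Agent.LieClassical.OrthForms (oddForm coe_oddForm)
open Cfsg.Agent.H951 (fx cm Inv)
open Cfsg.Agent.H278.Cov (Red Ext)
open scoped MatrixGroups Matrix

universe u v

/-- the text of `S5836` for fields in `Type` -/
def S5836Stmt : Prop := ∀ {F : Type} [Field F] [Fintype F] (_hodd : Odd (Fintype.card F)) (H : Subgroup (Matrix.GeneralLinearGroup (Unit ⊕ (Fin 4 ⊕ Fin 4)) F)) (_hH : Cfsg.Geo.IsMaximalIn (Cfsg.Geo.omegaGL (Cfsg.quadFormOdd 4 F)) H) (_hS : Cfsg.Geo.InOrthogonalResidualClass H),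
    ∃ (P : Subgroup (Matrix.GeneralLinearGroup (Unit ⊕ (Fin 4 ⊕ Fin 4)) F)) (p : ℕ), Cfsg.Geo.IsResidualCore H P ∧ p.Prime ∧ CharP F p ∧
    (((∃ (K : Type) (_ : Field K) (_ : Fintype K), Fintype.card K = 8 ∧ Nonempty ((P ⧸ (Cfsg.Geo.scalars (Unit ⊕ (Fin 4 ⊕ Fin 4)) F).subgroupOf P) ≃* Matrix.ProjectiveSpecialLinearGroup (Fin 2) K)) ∧ ((Fintype.card F = p ∧ (p % 7 = 1 ∨ p % 7 = 6)) ∨ (Fintype.card F = p ^ 3 ∧ (p % 7 = 2 ∨ p % 7 = 5 ∨ p % 7 = 3 ∨ p % 7 = 4)))) ∨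
     (Nonempty ((P ⧸ (Cfsg.Geo.scalars (Unit ⊕ (Fin 4 ⊕ Fin 4)) F).subgroupOf P) ≃* Matrix.ProjectiveSpecialLinearGroup (Fin 2) (ZMod 17)) ∧ ((Fintype.card F = p ∧ (p % 17 = 1 ∨ p % 17 = 16 ∨ p % 17 = 2 ∨ p % 17 = 15 ∨ p % 17 = 4 ∨ p % 17 = 13 ∨ p % 17 = 8 ∨ p % 17 = 9)) ∨ (Fintype.card F = p ^ 2 ∧ (p % 17 = 3 ∨ p % 17 = 14 ∨ p % 17 = 5 ∨ p % 17 = 12 ∨ p % 17 = 6 ∨ p % 17 = 11 ∨ p % 17 = 7 ∨ p % 17 = 10)))) ∨
     (Nonempty ((P ⧸ (Cfsg.Geo.scalars (Unit ⊕ (Fin 4 ⊕ Fin 4)) F).subgroupOf P) ≃* alternatingGroup (Fin 10)) ∧ Fintype.card F = p ∧ p ≠ 5 ∧ p ≠ 11) ∨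
     (Nonempty ((P ⧸ (Cfsg.Geo.scalars (Unit ⊕ (Fin 4 ⊕ Fin 4)) F).subgroupOf P) ≃* alternatingGroup (Fin 11)) ∧ Fintype.card F = 11) ∨
     (Nonempty ((P ⧸ (Cfsg.Geo.scalars (Unit ⊕ (Fin 4 ⊕ Fin 4)) F).subgroupOf P) ≃* Matrix.ProjectiveSpecialLinearGroup (Fin 2) F) ∧ 11 ≤ p) ∨
     ((∃ (K : Type) (_ : Field K) (_ : Fintype K), Fintype.card K = Fintype.card F ^ 2 ∧ Nonempty ((P ⧸ (Cfsg.Geo.scalars (Unit ⊕ (Fin 4 ⊕ Fin 4)) F).subgroupOf P) ≃* Matrix.ProjectiveSpecialLinearGroup (Fin 2) K)) ∧ Fintype.card F ≠ 3))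

/-- the order of `Aut L_2(q)` -/
theorem aut_l2 {K : Type} [Field K] [Fintype K] {p f : ℕ} (hp : p.Prime) (hf : 1 ≤ f) (hK : Fintype.card K = p ^ f)
    (h4 : 4 ≤ p ^ f) : Nat.card (MulAut (Matrix.ProjectiveSpecialLinearGroup (Fin 2) K)) = f * (p ^ f * ((p ^ f) ^ 2 - 1)) := by
  have := Fact.mk hp
  rw [S0813.result p f hf hK 2 le_rfl (fun _ => h4), if_pos rfl, one_mul, ClassicalGeometry.PSL2Basic.card_PGL2, hK]

theorem aut_alt {m : ℕ} (hm : 4 ≤ m) (h6 : m ≠ 6) : Nat.card (MulAut (alternatingGroup (Fin m))) = m.factorial := by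
  rw [← Nat.card_congr (Equiv.ofBijective _ (S2119.result m hm h6)), Nat.card_perm, Nat.card_fin]

/-- the numerical part of the elimination of the residual class -/
structure NN (p f k r a : ℕ) : Prop where
  hp : p.Prime
  hf : 1 ≤ f
  pp : PP p (f * k) r
  big : (k = 8 ∧ 17 < r ^ a) ∨ (k = 6 ∧ 7 < r ^ a)

namespace NN

variable {p f k r a : ℕ}

theorem six_le (h : NN p f k r a) : 6 ≤ k := by rcases h.big with h | h <;> omega

theorem kr (h : NN p f k r a) : k < r := by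
  have h1 := h.pp.lt (Nat.mul_pos h.hf (by have := h.six_le; omega))
  have h2 : 1 * k ≤ f * k := Nat.mul_le_mul_right _ h.hf
  omega

theorem dvd_sub (h : NN p f k r a) : k ∣ r - 1 :=
  (Dvd.intro_left f rfl).trans (h.pp.dvd_sub_one (Nat.mul_pos h.hf (by have := h.six_le; omega)))

theorem ha (h : NN p f k r a) : a ≠ 0 := by
  rintro rfl
  rcases h.big with h | h <;> simp at h

theorem not_pow_one (h : NN p f k r a) (h7 : (k = 8 ∧ r = 17) ∨ (k = 6 ∧ r = 7)) : 2 ≤ a := by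
  have h0 := h.ha
  by_contra hcon
  have h1 : a = 1 := by omega
  subst h1
  rcases h.big with h2 | h2 <;> rw [pow_one] at h2 <;> omega

theorem not_f (h : NN p f k r a) : ¬ r ∣ f := H975.Cov.pp_dvd_of_pow h.pp h.hf (by have := h.six_le; omega)

theorem not_small {N : ℕ} (h : NN p f k r a) (hN : N = 1512 ∨ N = 4896 ∨ N = Nat.factorial 10 ∨ N = Nat.factorial 11) :
    ¬ r ^ a ∣ N := by
  intro hd
  have hk := h.six_le
  have hkr := h.kr
  have hds := h.dvd_sub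
  have hrp := h.pp.prime
  have hrd : r ∣ N := (dvd_pow_self r h.ha).trans hd
  have key : ∀ q : ℕ, q.Prime → r ∣ q → r = q := fun q hq h1 => (Nat.prime_dvd_prime_iff_eq hrp hq).1 h1
  have hle : 2 ≤ a → r ^ 2 ∣ N := fun h2 => (pow_dvd_pow r h2).trans hd
  have hcase : k = 8 ∨ k = 6 := by rcases h.big with h | h <;> omega
  rcases hN with rfl | rfl | rfl | rfl
  · have h1 : r ∣ 2 ^ 3 * (3 ^ 3 * 7) := hrd
    rw [hrp.dvd_mul, hrp.dvd_mul] at h1
    rcases h1 with h1 | h1 | h1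
    · have := key 2 Nat.prime_two (hrp.dvd_of_dvd_pow h1); omega
    · have := key 3 Nat.prime_three (hrp.dvd_of_dvd_pow h1); omega
    · have h2 := key 7 (by norm_num) h1
      subst h2
      rcases hcase with rfl | rfl
      · omega
      · have := hle (h.not_pow_one (Or.inr ⟨rfl, rfl⟩))
        norm_num at this
  · have h1 : r ∣ 2 ^ 5 * (3 ^ 2 * 17) := hrd
    rw [hrp.dvd_mul, hrp.dvd_mul] at h1
    rcases h1 with h1 | h1 | h1
    · have := key 2 Nat.prime_two (hrp.dvd_of_dvd_pow h1); omega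
    · have := key 3 Nat.prime_three (hrp.dvd_of_dvd_pow h1); omega
    · have h2 := key 17 (by norm_num) h1
      subst h2
      rcases hcase with rfl | rfl
      · have := hle (h.not_pow_one (Or.inl ⟨rfl, rfl⟩))
        norm_num at this
      · norm_num at hds
  · have h1 := (hrp.dvd_factorial).1 hrd
    obtain ⟨c, hc⟩ := hds
    rcases hcase with rfl | rfl
    · have h2 : r = 9 := by omega
      subst h2
      norm_num at hrp
    · have h2 : r = 7 := by omega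
      subst h2
      have := hle (h.not_pow_one (Or.inr ⟨rfl, rfl⟩))
      revert this
      decide
  · have h1 := (hrp.dvd_factorial).1 hrd
    obtain ⟨c, hc⟩ := hds
    rcases hcase with rfl | rfl
    · have h2 : r = 9 := by omega
      subst h2
      norm_num at hrp
    · have h2 : r = 7 := by omega
      subst h2
      have := hle (h.not_pow_one (Or.inr ⟨rfl, rfl⟩))
      revert this
      decide

theorem ppq (h : NN p f k r a) : PP (p ^ f) k r := h.pp.of_pow h.hf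

theorem not_l2 (h : NN p f k r a) : ¬ r ^ a ∣ f * (p ^ f * ((p ^ f) ^ 2 - 1)) := by
  intro hd
  have hrp := h.pp.prime
  have hrd := (dvd_pow_self r h.ha).trans hd
  rw [hrp.dvd_mul, hrp.dvd_mul] at hrd
  rcases hrd with h1 | h1 | h1
  · exact h.not_f h1
  · exact h.ppq.not_dvd (by have := h.six_le; omega) h1
  · have h2 := (h.ppq.dvd_iff (Nat.pos_of_ne_zero (pow_ne_zero _ h.hp.ne_zero)) 2).1 h1
    have := Nat.le_of_dvd (by norm_num) h2
    have := h.six_le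
    omega

theorem not_l2sq (h : NN p f k r a) : ¬ r ^ a ∣ (2 * f) * (p ^ (2 * f) * ((p ^ (2 * f)) ^ 2 - 1)) := by
  intro hd
  have hrp := h.pp.prime
  have hrd := (dvd_pow_self r h.ha).trans hd
  rw [hrp.dvd_mul, hrp.dvd_mul, hrp.dvd_mul] at hrd
  have e1 : p ^ (2 * f) = (p ^ f) ^ 2 := by rw [← pow_mul, mul_comm]
  have h6 := h.six_le
  rw [e1] at hrd
  rcases hrd with (h1 | h1) | h1 | h1
  · have := Nat.le_of_dvd (by norm_num) h1
    have := h.kr
    omega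
  · exact h.not_f h1
  · exact h.ppq.not_dvd (by omega) (hrp.dvd_of_dvd_pow h1)
  · rw [← pow_mul] at h1
    have h2 := (h.ppq.dvd_iff (Nat.pos_of_ne_zero (pow_ne_zero _ h.hp.ne_zero)) _).1 h1
    have := Nat.le_of_dvd (by norm_num) h2
    omega

end NN

section list

variable {F : Type} [Field F] [Fintype F] {M : Subgroup (GL (Unit ⊕ (Fin 4 ⊕ Fin 4)) F)} {p f k r a : ℕ}

theorem nondeg_nine (h2 : (2 : F) ≠ 0) : Nondeg (oddForm 4 F) := LieClassical.OrthForms.nondeg_oddForm 4 F h2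

/-- **the residual class contains no elements of large primitive order** -/
theorem nine_res (hR : S5836Stmt) (hodd : Odd (Fintype.card F)) (hpf : Fintype.card F = p ^ f) (hq : 5 ≤ p ^ f) (hn : NN p f k r a)
    (hM : IsMaximalIn (omegaGL (quadFormOdd 4 F)) M) (hS : InOrthogonalResidualClass M) {g : GL (Unit ⊕ (Fin 4 ⊕ Fin 4)) F}
    (hg : g ∈ M) (ho : orderOf g = r ^ a) : False := by
  have h2 := H390.two_ne_zero_of_odd hodd
  have hMI : M ≤ Cfsg.isometryGroup F (⇑(oddForm 4 F)) := by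
    rw [coe_oddForm]
    exact hM.1.le.trans (by rintro _ ⟨x, -, rfl⟩; exact x.2)
  obtain ⟨P, p', hP, hp', hc, hcase⟩ := hR hodd M hM hS
  have hrodd : Odd (orderOf g) := by
    rw [ho]
    exact (hn.pp.odd (by have := Nat.mul_le_mul hn.hf hn.six_le; omega)).pow
  have key := H975.Cov.orderOf_dvd_core (nondeg_nine h2) hP hMI hg hrodd
  rw [ho] at key
  rcases hcase with ⟨⟨K, _, _, hK, ⟨e⟩⟩, -⟩ | ⟨⟨e⟩, -⟩ | ⟨⟨e⟩, -⟩ | ⟨⟨e⟩, -⟩ | ⟨⟨e⟩, -⟩ | ⟨⟨K, _, _, hK, ⟨e⟩⟩, -⟩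
  · rw [Nat.card_congr (MulAut.congr e).toEquiv, aut_l2 (p := 2) (f := 3) Nat.prime_two (by norm_num) (by rw [hK]; rfl) (by norm_num)] at key
    exact hn.not_small (Or.inl rfl) key
  · have : Fact (Nat.Prime 17) := ⟨by norm_num⟩
    rw [Nat.card_congr (MulAut.congr e).toEquiv, aut_l2 (p := 17) (f := 1) (by norm_num) (by norm_num) (by rw [ZMod.card]; rfl) (by norm_num)] at key
    exact hn.not_small (Or.inr (Or.inl rfl)) key
  · rw [Nat.card_congr (MulAut.congr e).toEquiv, aut_alt (by norm_num) (by norm_num)] at key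
    exact hn.not_small (Or.inr (Or.inr (Or.inl rfl))) key
  · rw [Nat.card_congr (MulAut.congr e).toEquiv, aut_alt (by norm_num) (by norm_num)] at key
    exact hn.not_small (Or.inr (Or.inr (Or.inr rfl))) key
  · rw [Nat.card_congr (MulAut.congr e).toEquiv, aut_l2 hn.hp hn.hf hpf (by omega)] at key
    exact hn.not_l2 key
  · have h4 : 4 ≤ p ^ (2 * f) := by
      have h6 : 1 < p ^ f := by rw [← hpf]; exact Fintype.one_lt_card
      have e1 : p ^ (2 * f) = p ^ f * p ^ f := by rw [two_mul, pow_add]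
      rw [e1]
      exact Nat.mul_le_mul h6 h6
    rw [Nat.card_congr (MulAut.congr e).toEquiv, aut_l2 hn.hp (f := 2 * f) (by have := hn.hf; omega)
      (by rw [hK, hpf, ← pow_mul, mul_comm]) h4] at key
    exact hn.not_l2sq key

theorem omega_le {ι : Type} [Fintype ι] [DecidableEq ι] {Q : (ι → F) → F} : omegaGL Q ≤ Cfsg.isometryGroup F Q := by
  rintro _ ⟨x, -, rfl⟩
  exact x.2

/-- **maximal subgroups of `Ω_9(q)` containing elements of large primitive order** -/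
theorem nine_list (hR : S5836Stmt) (hodd : Odd (Fintype.card F)) (hpf : Fintype.card F = p ^ f) (hq : 5 ≤ p ^ f) (hn : NN p f k r a)
    (hM : IsMaximalIn (omegaGL (quadFormOdd 4 F)) M) {g : GL (Unit ⊕ (Fin 4 ⊕ Fin 4)) F} (hg : g ∈ M) (ho : orderOf g = r ^ a) :
    Red M ∨ (k = 6 ∧ ∃ K : Subalgebra F (Matrix (Unit ⊕ (Fin 4 ⊕ Fin 4)) (Unit ⊕ (Fin 4 ⊕ Fin 4)) F),
      IsFieldSubalgebra 3 K ∧ M ≤ subalgebraNormalizer K) := by
  have h2 := H390.two_ne_zero_of_odd hodd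
  have hMI : M ≤ Cfsg.isometryGroup F (⇑(oddForm 4 F)) := by rw [coe_oddForm]; exact hM.1.le.trans omega_le
  have h6 := hn.six_le
  have h8 : k = 8 ∨ k = 6 := by rcases hn.big with h | h <;> omega
  have hpf' : Nat.card F = p ^ f := by rw [Nat.card_eq_fintype_card]; exact hpf
  have hppq : PP (Nat.card F) k r := by rw [hpf']; exact hn.ppq
  have hkr := hn.kr
  have hdM : r ∣ Nat.card M := (dvd_pow_self r hn.ha).trans (by rw [← ho]; exact Subgroup.orderOf_dvd_natCard M hg)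
  have hc9 : Fintype.card (Unit ⊕ (Fin 4 ⊕ Fin 4)) = 9 := card_odd 4
  have h9 : 9 < r ^ a := by
    rcases hn.big with ⟨-, h⟩ | ⟨rfl, h⟩
    · omega
    · obtain ⟨c, hc⟩ := hn.dvd_sub
      have hrp := hn.pp.prime
      rcases Nat.lt_or_ge r 13 with h13 | h13
      · have h7 : r = 7 := by omega
        subst h7
        have h1 := hn.not_pow_one (Or.inr ⟨rfl, rfl⟩)
        have := Nat.pow_le_pow_right (show 0 < 7 by norm_num) h1
        omega
      · have := Nat.le_self_pow hn.ha r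
        omega
  have hMI2 : M ≤ Cfsg.isometryGroup F (⇑(oddForm 4 F)) := hMI
  have hfin : Module.finrank F (Unit ⊕ (Fin 4 ⊕ Fin 4) → F) = 9 := by rw [Module.finrank_fintype_fun_eq_card, hc9]
  rcases S5835.result hodd M hM with ⟨W, hW0, hWs, hW⟩ | ⟨W, hW0, hWe, -, -, hW⟩ | ⟨-, D, hD, hW⟩ | ⟨-, D, hD, hW⟩ |
    ⟨K, hK, -, hW⟩ | ⟨F₀, s, P, hs, hcard, -, hW⟩ | ⟨-, e, P, f₁, -, -, hW⟩ | hS
  · left
    refine ⟨W, hW0, ?_, hW.le.trans inf_le_left⟩
    rintro rfl
    have hne : Nonempty (Unit ⊕ (Fin 4 ⊕ Fin 4)) := ⟨Sum.inl ()⟩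
    obtain ⟨v, hv⟩ := H975.Cov.exists_ne_zero (nondeg_nine (F := F) h2)
    apply hv
    rw [show (oddForm 4 F) v = quadFormOdd 4 F v by rw [← coe_oddForm]]
    exact hWs v trivial
  · left
    refine ⟨W, hW0, ?_, hW.le.trans inf_le_left⟩
    rintro rfl
    rw [finrank_top, hfin] at hWe
    exact absurd hWe (by decide)
  · exfalso
    have := decomp_pow hD.decomp.decomp ((hW.le.trans inf_le_left) hg) (hMI hg) hppq (by omega) (by omega) hn.ha ho
    omega
  · exfalso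
    have := decomp_pow hD.decomp.decomp ((hW.le.trans inf_le_left) hg) (hMI hg) hppq (by omega) (by omega) hn.ha ho
    omega
  · have hle := hW.le.trans inf_le_left
    rcases h8 with rfl | rfl
    · exfalso
      have hne : Nonempty (Unit ⊕ (Fin 4 ⊕ Fin 4)) := ⟨Sum.inl ()⟩
      rcases ext_cases Nat.prime_three hK hle (by rw [hc9]; norm_num) hppq (by rw [hc9]; norm_num) hdM with h | h
      · omega
      · omega
    · exact Or.inr ⟨rfl, K, hK, hle⟩
  · exfalso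
    exact kill_subfield (hW.le.trans inf_le_left) hs (by rw [Nat.card_eq_fintype_card]; exact hcard) hn.hp hpf' hn.pp
      (by rw [hc9]; omega) (by omega) hdM
  · exfalso
    have hq1 := one_lt_q F
    rcases H251.GeoCard.wreath e P hppq.prime (hppq.not_dvd (by omega))
      (hdM.trans (Subgroup.card_dvd_of_le (hW.le.trans inf_le_left))) with h | h
    · omega
    · have := le_of_div hppq hq1.le h
      omega
  · exact (nine_res hR hodd hpf hq hn hM hS hg ho).elim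

end list

end Cfsg.Agent.H449.Reg
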