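import Cfsg.Agent.H449.Reg.OddRow

/-!
# S3691, section 5: `Ω_9(q)`: maximal subgroups containing elements of large primitive order (helper449)
-/

set_option autoImplicit false
set_option linter.unusedSectionVars false

namespace Cfsg.Agent.H449.Reg

open Module QuadraticMap Cfsg Cfsg.Geo Cfsg.Agent.LieClassical.OrthCore Cfsg.Agent.LieClassical.OrthTrans
  Cfsg.Agent.H454.Reg Cfsg.Agent.H884.El Cfsg.Agent.H955 Cfsg.Agent.H954.TSing Cfsg.Agent.H193.Dg Cfsg.Agent.H851.Dg
open Cfsg.Agent.LieClassical.OrthForms (oddForm coe_oddForm)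
open Cfsg.Agent.H951 (fx cm Inv)
open Cfsg.Agent.H278.Cov (Red Ext)
open scoped MatrixGroups Matrix

universe u v

section decomp

variable {ι : Type} [Fintype ι] [DecidableEq ι] {F : Type u} [Field F] [Fintype F] {Q : QuadraticForm F (ι → F)}

/-- elements of prime power order of the stabiliser of a decomposition -/
theorem decomp_pow {t k : ℕ} {D : Fin t → Submodule F (ι → F)} (hD : IsMDecomposition k D) {g : GL ι F}
    (hg : g ∈ decompositionStabilizer D) (hgQ : g ∈ Cfsg.isometryGroup F (⇑Q)) {d r a : ℕ} (hr : PP (Nat.card F) d r)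
    (hd : 2 ≤ d) (hk : k < d) (ha : a ≠ 0) (ho : orderOf g = r ^ a) : r ^ a ≤ t := by
  classical
  obtain ⟨b, rfl⟩ := Nat.exists_eq_succ_of_ne_zero ha
  obtain ⟨σ, hσ⟩ := hg
  have hinj : Function.Injective D := by
    intro i j hij
    by_contra hne
    have h1 := hD.indep.pairwiseDisjoint hne
    have h2 : D i = ⊥ := by
      have h3 : Disjoint (D i) (D j) := h1
      rw [← hij, disjoint_self] at h3
      exact h3
    have h3 := hD.finrank_eq i
    rw [h2, finrank_bot] at h3
    have := hD.pos
    omega
  have hpow : ∀ (k : ℕ) (i : Fin t), (D i).map (Matrix.toLin' ((g ^ k : GL ι F) : Matrix ι ι F)) = D ((σ ^ k) i) := by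
    intro k
    induction k with
    | zero =>
      intro i
      simp
    | succ k ih =>
      intro i
      rw [pow_succ', Units.val_mul, Matrix.toLin'_mul, Submodule.map_comp, ih, hσ, pow_succ']
      rfl
  -- the element of order `r`
  set h := g ^ r ^ b with hh
  have hr0 : 0 < r := hr.prime.pos
  have hoh : orderOf h = r := by
    rw [hh, orderOf_pow_of_dvd (pow_ne_zero _ hr0.ne') (by rw [ho]; exact pow_dvd_pow r (Nat.le_succ b)), ho,
      Nat.pow_div (Nat.le_succ b) hr0, Nat.succ_sub (le_refl b), Nat.sub_self, pow_one]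
  have hh1 : h ≠ 1 := by
    intro h1
    rw [h1, orderOf_one] at hoh
    exact hr.prime.one_lt.ne hoh
  have hhQ : h ∈ Cfsg.isometryGroup F (⇑Q) := Subgroup.pow_mem _ hgQ _
  have hiso : Iso Q (lin h) r := Iso.mk' hr hd (by rw [← H251.GeoCard.toLin_pow, ← hoh, pow_orderOf_eq_one]; exact lin_one)
    (lin_iso (H := Cfsg.isometryGroup F (⇑Q)) le_rfl hhQ)
  by_cases hσ1 : σ ^ r ^ b = 1
  · exfalso
    apply hh1
    have h2 : ∀ i, D i ≤ fx (lin h) := by
      intro i
      apply hiso.le_fx hr
      · intro w hw
        have h3 : (D i).map (lin h) = D i := by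
          have := hpow (r ^ b) i
          rw [hσ1] at this
          exact this
        rw [← h3]
        exact ⟨w, hw, rfl⟩
      · rw [hD.finrank_eq]; exact hk
    have h3 : (⊤ : Submodule F (ι → F)) ≤ fx (lin h) := by
      rw [← hD.iSup_eq_top]
      exact iSup_le h2
    apply lin_injective
    rw [lin_one]
    apply LinearMap.ext
    intro v
    have h4 : v ∈ fx (lin h) := h3 trivial
    exact H951.mem_fx.1 h4
  · obtain ⟨i, hi⟩ : ∃ i, (σ ^ r ^ b) i ≠ i := by
      by_contra hcon
      push Not at hcon
      exact hσ1 (Equiv.ext hcon)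
    have h5 : (σ ^ r ^ (b + 1)) i = i := by
      apply hinj
      rw [← hpow, ← ho, pow_orderOf_eq_one]
      simp
    have h6 : Function.minimalPeriod (fun x => σ • x) i = r ^ (b + 1) := by
      have := Fact.mk hr.prime
      apply Function.minimalPeriod_eq_prime_pow
      · intro h7
        apply hi
        have h8 : (fun x => σ • x)^[r ^ b] i = i := h7
        rw [smul_iterate] at h8
        exact h8
      · have h8 : (fun x => σ • x)^[r ^ (b + 1)] i = i := by
          rw [smul_iterate]; exact h5
        exact h8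
    rw [Nat.succ_eq_add_one, ← h6, MulAction.minimalPeriod_eq_card]
    calc Fintype.card (MulAction.orbit (Subgroup.zpowers σ) i) ≤ Fintype.card (Fin t) := Fintype.card_le_of_injective _ Subtype.val_injective
      _ = t := Fintype.card_fin t

end decomp

end Cfsg.Agent.H449.Reg
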