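import Cfsg.Agent.H449.Reg.Nine

/-!
# S3691, section 5: `Ω_9(q)` (helper449)
-/

set_option autoImplicit false
set_option linter.unusedSectionVars false

namespace Cfsg.Agent.H449.Reg

open Module QuadraticMap Cfsg Cfsg.Geo Cfsg.Agent.LieClassical.OrthCore Cfsg.Agent.LieClassical.OrthTrans
  Cfsg.Agent.H454.Reg Cfsg.Agent.H884.El Cfsg.Agent.H955 Cfsg.Agent.H954.TSing Cfsg.Agent.H193.Dg Cfsg.Agent.H851.Dg
open Cfsg.Agent.LieClassical.OrthForms (oddForm coe_oddForm)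
open Cfsg.Agent.LieClassical.OrthFinite (glEquiv glEquiv_apply)
open Cfsg.Agent.H951 (fx cm Inv)
open Cfsg.Agent.H278.Cov (Red Ext)
open scoped MatrixGroups Matrix

universe u v

/-- maximal overgroups -/
theorem exists_max {A : Type*} [Group A] [Finite A] {K H : Subgroup A} (h : H < K) : ∃ M, IsMaximalIn K M ∧ H ≤ M := by
  obtain ⟨M, hHM, hM⟩ := (Set.toFinite {N : Subgroup A | N < K}).exists_le_maximal h
  refine ⟨M, ⟨hM.prop, fun N hMN hNK => ?_⟩, hHM⟩
  by_cases hN : N = K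
  · exact Or.inr hN
  · exact Or.inl (hM.eq_of_le (lt_of_le_of_ne hNK hN) hMN).symm

/-- conjugating into a subgroup with the full `r`-part -/
theorem exists_conj_mem {A : Type*} [Group A] [Finite A] {X0 : Subgroup A} {r : ℕ} (hr : r.Prime)
    (hv : (Nat.card X0).factorization r = (Nat.card A).factorization r) {t : A} (ht : t ^ r = 1) :
    ∃ s : A, s * t * s⁻¹ ∈ X0 := by
  classical
  have := Fact.mk hr
  obtain ⟨S⟩ : Nonempty (Sylow r X0) := inferInstance
  have hc : Nat.card ((S : Subgroup X0).map X0.subtype) = r ^ (Nat.card A).factorization r := by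
    rw [Subgroup.card_map_of_injective X0.subtype_injective, S.card_eq_multiplicity, hv]
  let S' : Sylow r A := Sylow.ofCard _ hc
  have hz : IsPGroup r (Subgroup.zpowers t) := by
    apply IsPGroup.of_card (n := if t = 1 then 0 else 1)
    rw [Nat.card_zpowers]
    split_ifs with h1
    · rw [h1, orderOf_one, pow_zero]
    · rw [pow_one]
      exact orderOf_eq_prime ht h1
  obtain ⟨P, hP⟩ := hz.exists_le_sylow
  obtain ⟨s, hs⟩ := MulAction.exists_smul_eq A P S'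
  refine ⟨s, ?_⟩
  have h1 : s * t * s⁻¹ ∈ (S' : Subgroup A) := by
    rw [← hs]
    have h2 : t ∈ (P : Subgroup A) := hP (Subgroup.mem_zpowers t)
    exact Subgroup.smul_mem_pointwise_smul _ (MulAut.conj s) _ h2
  have h3 : ((S' : Sylow r A) : Subgroup A) = (S : Subgroup X0).map X0.subtype := rfl
  rw [h3] at h1
  obtain ⟨y, -, hy⟩ := h1
  rw [← hy]
  exact y.2

section ctx

variable {F : Type} [Field F] [Fintype F]
variable {G : Type u} [Group G] [Finite G] {T : Subgroup G} [T.Normal] {hG : Good (oddForm 4 F)}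
  {eT : T ≃* POmega F (⇑(oddForm 4 F))} {hI : Ind (eP hG eT)} {X Y : Subgroup G} {p f : ℕ}

namespace Ctx

/-- the list lemma for a factor -/
theorem nine_elt (h : Ctx hI X Y p f 4) (hR : S5836Stmt) (hodd : Odd (Fintype.card F)) (hq : 5 ≤ p ^ f) {k r a : ℕ}
    (hn : NN p f k r a) (hd : r ^ a ∣ Nat.card (X.subgroupOf T)) :
    Red (preG eT X) ∨ (k = 6 ∧ ∃ K : Subalgebra F (Matrix (Unit ⊕ (Fin 4 ⊕ Fin 4)) (Unit ⊕ (Fin 4 ⊕ Fin 4)) F),
      IsFieldSubalgebra 3 K ∧ preG eT X ≤ subalgebraNormalizer K) := by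
  have h6 := hn.six_le
  have h8 : k = 8 ∨ k = 6 := by rcases hn.big with h | h <;> omega
  obtain ⟨g, hg, ho⟩ := h.elt hn.pp (by omega) (by omega) hd
  have hlt : preG eT X < omegaGL (⇑(oddForm 4 F)) :=
    lt_of_le_of_ne preG_le_omega fun h1 => not_omega_le h.fac.not_le_left h1.ge
  obtain ⟨M, hM, hle⟩ := exists_max hlt
  rw [coe_oddForm] at hM
  have hF : Fintype.card F = p ^ f := by rw [← Nat.card_eq_fintype_card]; exact h.card
  rcases nine_list hR hodd hF hq hn hM (hle hg) ho with ⟨W, hW0, hW1, hW⟩ | ⟨h6, K, hK, hMK⟩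
  · exact Or.inl ⟨W, hW0, hW1, hle.trans hW⟩
  · exact Or.inr ⟨h6, K, hK, hle.trans hMK⟩

/-- **`X` fixes a minus point and `Y` contains no `r_4`**: impossible -/
theorem four_kill (h : Ctx hI X Y p f 4) {v : Unit ⊕ (Fin 4 ⊕ Fin 4) → F} (hv : Pt hI X v)
    (hY : ∀ r, PP p (f * 4) r → ¬ r ∣ Nat.card (Y.subgroupOf T)) : False := by
  obtain ⟨r, hr⟩ := exists_pp (q := p) (e := f * 4) h.prime.two_le (by
    have := Nat.mul_le_mul h.pos (show 4 ≤ 4 from le_rfl); omega) (fun h1 => h.podd h1.1)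
  have hrq := h.pp hr
  have hrlt := hrq.lt (by norm_num)
  have hvv := h.fac.val_eq (h.out 4 r (by norm_num) hr)
  rw [Nat.factorization_eq_zero_of_not_dvd (hY r hr), add_zero] at hvv
  have hfT : Finite T := inferInstance
  obtain ⟨g, hg, hgr, hg1, hcm⟩ := exists_g (A := 2) hG.nondeg hrq (by decide) (by norm_num) (by norm_num)
    (Or.inr ⟨h.two_ne, by rw [h.dim]; norm_num⟩)
  have hrodd : Odd r := hr.prime.odd_of_ne_two (by omega)
  obtain ⟨x, rfl⟩ := exists_omega h.data hg hrodd hgr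
  have hxr : x ^ r = 1 := Subtype.ext (Subtype.ext hgr)
  have hx1 : x ≠ 1 := by rintro rfl; exact hg1 rfl
  set t : T := eT.symm (QuotientGroup.mk x) with ht
  have htr : t ^ r = 1 := by
    rw [ht, ← map_pow]
    have h1 : ((QuotientGroup.mk x : POmega F (⇑(oddForm 4 F))) ^ r) =
        QuotientGroup.mk' (Subgroup.center (Omega F (⇑(oddForm 4 F)))) (x ^ r) := by rw [map_pow]; rfl
    rw [h1, hxr, map_one, map_one]
  obtain ⟨s, hs⟩ := exists_conj_mem hr.prime hvv htr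
  obtain ⟨c, hc⟩ := QuotientGroup.mk_surjective (eT s)
  have hmem : (((c * x * c⁻¹ : Omega F (⇑(oddForm 4 F))) : isometryGroup F (⇑(oddForm 4 F))) :
      GL (Unit ⊕ (Fin 4 ⊕ Fin 4)) F) ∈ preG eT X := by
    rw [mem_preG]
    have h1 : (QuotientGroup.mk (c * x * c⁻¹) : POmega F (⇑(oddForm 4 F))) = eT (s * t * s⁻¹) := by
      rw [map_mul, map_mul, map_inv, ht, eT.apply_symm_apply, ← hc]
      rfl
    rw [h1, eT.symm_apply_apply]
    exact hs
  set c' : GL (Unit ⊕ (Fin 4 ⊕ Fin 4)) F := ((c : isometryGroup F (⇑(oddForm 4 F))) : GL (Unit ⊕ (Fin 4 ⊕ Fin 4)) F) with hc'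
  set x' : GL (Unit ⊕ (Fin 4 ⊕ Fin 4)) F := ((x : isometryGroup F (⇑(oddForm 4 F))) : GL (Unit ⊕ (Fin 4 ⊕ Fin 4)) F) with hx'
  have hmem' : c' * x' * c'⁻¹ ∈ preG eT X := hmem
  have hyr : (c' * x' * c'⁻¹) ^ r = 1 := by rw [conj_pow, hgr, mul_one, mul_inv_cancel]
  have hy1 : c' * x' * c'⁻¹ ≠ 1 := by
    intro h1
    apply hg1
    have h2 : x' = c'⁻¹ * (c' * x' * c'⁻¹) * c' := by group
    rw [h2, h1, mul_one, inv_mul_cancel]
  have ho : orderOf (c' * x' * c'⁻¹) = r := by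
    have := Fact.mk hr.prime
    exact orderOf_eq_prime hyr hy1
  have hiso := h.isoOf hr (by norm_num) hmem' ho
  have hcm' : finrank F (cm (lin (c' * x' * c'⁻¹))) = 4 * 2 := by rw [finrank_cm_conj, hcm]
  have hplus := hiso.even_two hG.nondeg hrq (by decide) hcm'
  have hadd := hiso.finrank_add
  have hfin : finrank F (Unit ⊕ (Fin 4 ⊕ Fin 4) → F) = 9 := by rw [Module.finrank_fintype_fun_eq_card, h.dim]
  have hfx : finrank F (fx (lin (c' * x' * c'⁻¹))) = 1 := by omega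
  have h5 : F ∙ v ≤ fx (lin (c' * x' * c'⁻¹)) := by
    rw [Submodule.span_singleton_le_iff_mem]
    apply H951.mem_fx.2
    rw [lin, Matrix.toLin'_apply]
    exact hv.fix_of_odd h.two_ne hmem' (by rw [ho]; exact hrodd)
  have h6 : F ∙ v = fx (lin (c' * x' * c'⁻¹)) :=
    Submodule.eq_of_le_of_finrank_eq h5 (by rw [finrank_span_singleton hv.ne0, hfx])
  apply hv.minus
  have h7 : perp (oddForm 4 F) (F ∙ v) = cm (lin (c' * x' * c'⁻¹)) := by
    rw [h6, ← perp_cm hG.nondeg hiso.iso hiso.ne0 hiso.pow, perp_perp hG.nondeg]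
  rw [h7]
  exact hplus

/-- a factor normalising a field of degree three contains no `r_4` -/
theorem no_four (h : Ctx hI X Y p f 4) {K : Subalgebra F (Matrix (Unit ⊕ (Fin 4 ⊕ Fin 4)) (Unit ⊕ (Fin 4 ⊕ Fin 4)) F)}
    (hK : IsFieldSubalgebra 3 K) (hle : preG eT X ≤ subalgebraNormalizer K) {r : ℕ} (hr : PP p (f * 4) r) :
    ¬ r ∣ Nat.card (X.subgroupOf T) := by
  intro hd
  have hrq := h.pp hr
  have hrlt := hrq.lt (by norm_num)
  obtain ⟨y, hy, hiso, hyr, hy1⟩ := exists_elt (preG_le (eT := eT) (X := X)) hrq (by norm_num) (hd.trans card_dvd_preG)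
  have h3 := H906.Cov.ext_dvd Nat.prime_three hK (t := y) (hle hy)
    (Nat.Coprime.coprime_dvd_left (orderOf_dvd_of_pow_eq_one hyr) ((Nat.coprime_primes hr.prime Nat.prime_three).2 (by omega)))
    (Polynomial.X - 1)
  have h4 : LinearMap.ker (Polynomial.aeval (Matrix.toLin' (y : Matrix (Unit ⊕ (Fin 4 ⊕ Fin 4)) (Unit ⊕ (Fin 4 ⊕ Fin 4)) F))
      (Polynomial.X - 1 : Polynomial F)) = fx (lin y) := by
    ext w
    rw [map_sub, Polynomial.aeval_X, map_one, LinearMap.mem_ker, LinearMap.sub_apply, sub_eq_zero]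
    exact H951.mem_fx.symm
  rw [h4] at h3
  have hadd := hiso.finrank_add
  have hfin : finrank F (Unit ⊕ (Fin 4 ⊕ Fin 4) → F) = 9 := by rw [Module.finrank_fintype_fun_eq_card, h.dim]
  have hcm := hiso.dvd_cm hrq
  have hcm0 : finrank F (cm (lin y)) ≠ 0 := fun h0 => cm_ne_bot (lin_ne_one hy1) (Submodule.finrank_eq_zero.1 h0)
  obtain ⟨a, ha⟩ := h3
  obtain ⟨b, hb⟩ := hcm
  omega

end Ctx

end ctx

end Cfsg.Agent.H449.Reg
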