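import Cfsg.Agent.H449.Reg.OddRow
import Cfsg.Agent.H898.Rg.FB
import Cfsg.Agent.H951.Rl.BigN
import Cfsg.Agent.H163.PG.Ord
import Cfsg.Agent.H934.OutB

/-!
# S3691, section 5: no factorization of `PΩ_{2m+1}(q)`, `m ≥ 5` (helper449)
-/

set_option autoImplicit false
set_option linter.unusedSectionVars false

namespace Cfsg.Agent.H449.Reg

open Module QuadraticMap Cfsg Cfsg.Geo Cfsg.Agent.LieClassical.OrthCore Cfsg.Agent.LieClassical.OrthTrans
  Cfsg.Agent.H454.Reg Cfsg.Agent.H884.El Cfsg.Agent.H955 Cfsg.Agent.H954.TSing Cfsg.Agent.H193.Dg Cfsg.Agent.H851.Dg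
open Cfsg.Agent.LieClassical.OrthForms (oddForm coe_oddForm)

universe u

theorem lp_of_big {p f k r a : ℕ} (h : H851.Rl.Big p f k r a) : LP p f k := ⟨r, a, ⟨h.prime, h.ord⟩, h.big, h.dvd⟩

/-- **(N)** for `q` odd, `k` even -/
theorem lp_of {p f k : ℕ} (hp : p.Prime) (hf : 1 ≤ f) (h2 : p ≠ 2) (hk : 8 ≤ k) (h : ¬ (p = 3 ∧ f = 1 ∧ k = 18)) : LP p f k := by
  obtain ⟨r, hr⟩ := H951.Rl.exists_big hp hf (k := k) (by omega) (by
    simp only [List.mem_cons, Prod.mk.injEq, List.not_mem_nil, or_false]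
    omega)
  exact lp_of_big hr

variable {G : Type u} [Group G] [Finite G] {T X Y : Subgroup G}

theorem out_dvd {F : Type} [Field F] [Fintype F] {m p f : ℕ} (hm : 3 ≤ m) (hp : p.Prime) (hf1 : 1 ≤ f)
    (hF : Fintype.card F = p ^ f) (hodd : Odd (Fintype.card F)) (hf : Fac T X Y)
    (e : T ≃* POmega F (quadFormOdd m F)) : Nat.card (Cfsg.Out T) ∣ 2 * f := by
  have hT := hf.simple
  have hZT : Subgroup.center T = ⊥ := by
    rcases (inferInstance : (Subgroup.center T).Normal).eq_bot_or_eq_top with h | h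
    · exact h
    · exfalso
      apply hf.nonab
      refine ⟨⟨fun a b => ?_⟩⟩
      have h1 : a ∈ Subgroup.center T := by rw [h]; trivial
      exact (Subgroup.mem_center_iff.1 h1 b).symm
  have hZ : Subgroup.center (POmega F (quadFormOdd m F)) = ⊥ := by
    rw [Subgroup.eq_bot_iff_forall]
    intro x hx
    have h1 : e.symm x ∈ Subgroup.center T := by
      rw [Subgroup.mem_center_iff]
      intro y
      apply e.injective
      rw [map_mul, map_mul, e.apply_symm_apply]
      exact Subgroup.mem_center_iff.1 hx (e y)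
    rw [hZT, Subgroup.mem_bot] at h1
    rw [← e.apply_symm_apply x, h1, map_one]
  rw [H934.OutB.card_out_congr e, H163.PG.card_out_oodd hp hf1 hF hodd hm hZ]

/-- from `ResB` to a contradiction -/
theorem Ctx.false_of {F : Type} [Field F] [Fintype F] {m p f : ℕ} [T.Normal] {hG : Good (oddForm m F)}
    {eT : T ≃* POmega F (⇑(oddForm m F))} {hI : Ind (eP hG eT)} (hm : 3 ≤ m) (h : Ctx hI X Y p f m) (hodd : Odd (Fintype.card F))
    (e : T ≃* POmega F (quadFormOdd m F)) (hr : ∃ v, ResB hI X m v ∨ ResB hI Y m v) : False := by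
  have hF : Fintype.card F = p ^ f := by rw [← Nat.card_eq_fintype_card]; exact h.card
  have hout := out_dvd hm h.prime h.pos hF hodd h.fac e
  obtain ⟨v, hv | hv⟩ := hr
  · exact H898.Rg.resB_false h.fac h.prime h.podd h.pos h.card hout hm hv
  · exact H898.Rg.resB_false h.fac.symm h.prime h.podd h.pos h.card hout hm hv

/-- **no factorization of `Ω_{2m+1}(q)`, `m ≥ 5`**, `(q, m) ≠ (3, 9)` -/
theorem false5 (hP : H659.CovCore.S5948Stmt.{0}) {F : Type} [Field F] [Fintype F] {m : ℕ} (hm : 5 ≤ m)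
    (hodd : Odd (Fintype.card F)) (h39 : ¬ (Fintype.card F = 3 ∧ m = 9)) (hf : Fac T X Y)
    (hT : Nonempty (T ≃* POmega F (quadFormOdd m F))) : False := by
  obtain ⟨p, f, hp, hf1, hF'⟩ := exists_char F
  have hF : Fintype.card F = p ^ f := by rw [← Nat.card_eq_fintype_card]; exact hF'
  have := hf.normal
  obtain ⟨hG, eT, hI, h⟩ := exists_ctx (by omega) hp hf1 hF hodd hf hT
  obtain ⟨e⟩ := hT
  refine h.false_of (by omega) hodd e ?_
  have h2 := h.podd
  have h39' : ¬ (p = 3 ∧ f = 1 ∧ m = 9) := fun h1 => h39 ⟨by rw [hF, h1.1, h1.2.1, pow_one], h1.2.2⟩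
  by_cases h10 : m = 10
  · subst h10
    exact h.main10 hP (lp_of hp hf1 h2 (by norm_num) (by omega)) (lp_of hp hf1 h2 (by norm_num) (by omega))
      (lp_of hp hf1 h2 (by norm_num) (by omega))
  · by_cases h11 : m = 11
    · subst h11
      exact h.main5 hP (by omega) (lp_of hp hf1 h2 (by norm_num) (by omega)) (lp_of hp hf1 h2 (by norm_num) (by omega))
        (fun h3 => absurd h3 (by norm_num))
    · refine h.main5 hP (by omega) (lp_of hp hf1 h2 (by omega) (by omega)) (lp_of hp hf1 h2 (by omega) (by omega))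
        (fun h3 => ?_)
      have h7 : 7 ≤ m := by
        obtain ⟨c, hc⟩ := h3
        omega
      exact lp_of hp hf1 h2 (by omega) (by omega)

end Cfsg.Agent.H449.Reg
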