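import Cfsg.Agent.H449.Reg.NineB
import Cfsg.Agent.H449.Reg.OddFin

/-!
# S3691, section 5: `Ω_9(q)`, the block of dimension eight, and the result (helper449)
-/

set_option autoImplicit false
set_option linter.unusedSectionVars false

namespace Cfsg.Agent.H449.Reg

open Module QuadraticMap Cfsg Cfsg.Geo Cfsg.Agent.LieClassical.OrthCore Cfsg.Agent.LieClassical.OrthTrans
  Cfsg.Agent.H454.Reg Cfsg.Agent.H884.El Cfsg.Agent.H955 Cfsg.Agent.H954.TSing Cfsg.Agent.H193.Dg Cfsg.Agent.H851.Dg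
open Cfsg.Agent.LieClassical.OrthForms (oddForm coe_oddForm)
open Cfsg.Agent.LieClassical.OrthFinite (glEquiv glEquiv_apply)
open Cfsg.Agent.H951 (fx cm Inv)
open Cfsg.Agent.H278.Cov (Red Ext)
open scoped MatrixGroups Matrix

universe u v

/-- `H975.Cov.a_case` : maximal subgroups of `Ω⁻₈(q)` containing elements of order `r_8` -/
def ACase : Prop := ∀ {F : Type} [Field F] [Fintype F] {Q : QuadraticForm F (Fin 8 → F)} {H : Subgroup (GL (Fin 8) F)}
  {p f r8 : ℕ}, p.Prime → 1 ≤ f → Nat.card F = p ^ f → PP p (f * 8) r8 → Nondeg Q → ¬ IsPlus Q →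
  IsMaximalIn (omegaGL (⇑Q)) H → ∀ {a : GL (Fin 8) F}, a ∈ H → orderOf a = r8 →
  ∃ K : Subalgebra F (Matrix (Fin 8) (Fin 8) F), IsFieldSubalgebra 2 K ∧ H ≤ subalgebraNormalizer K

section E

variable {F : Type u} [Field F] {V : Type v} [AddCommGroup V] [Module F V] {Q : QuadraticForm F V}

/-- back from matrices -/
theorem E_le_of_omega [Fintype F] {n : ℕ} (hn5 : 5 ≤ n) (hQ : Nondeg Q) {H : Subgroup (V ≃ₗ[F] V)} (φ : V ≃ₗ[F] (Fin n → F))
    (h : omegaGL (⇑(tq Q φ)) ≤ H.map (cj φ).toMonoidHom) : E Q ≤ H := by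
  have hQ' := nondeg_tq hQ φ
  have hQ'' := H884.OddForm.isNondegenerate_of_nondeg _ hQ'
  rw [E, Subgroup.closure_le]
  rintro _ ⟨u, w, hu, hw, rfl⟩
  have hu' : (H884.OmegaGL.bundle (⇑(tq Q φ)) hQ'') (φ u) = 0 := by
    change Q (φ.symm (φ u)) = 0
    rw [φ.symm_apply_apply, hu]
  have hw' : polar (H884.OmegaGL.bundle (⇑(tq Q φ)) hQ'') (φ u) (φ w) = 0 := by
    change polar (tq Q φ) (φ u) (φ w) = 0
    rw [polar_tq, φ.symm_apply_apply, φ.symm_apply_apply, hw]
  have h1 : cj φ (siegel Q u w hu hw) ∈ omegaGL (⇑(tq Q φ)) := by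
    rw [H884.OmegaGL.mem_omegaGL _ hQ'' (by rw [Fintype.card_fin]; exact hn5)]
    have h2 : glEquiv (Fin n) F (cj φ (siegel Q u w hu hw)) = siegel _ (φ u) (φ w) hu' hw' := by
      apply LinearEquiv.ext
      intro v
      rw [glEquiv_apply, siegel_apply, cj_apply, siegel_apply, map_sub, map_sub, map_add, map_smul, map_smul, map_smul,
        φ.apply_symm_apply]
      have e1 : ∀ a b : V, polar (H884.OmegaGL.bundle (⇑(tq Q φ)) hQ'') (φ a) (φ b) = polar Q a b := by
        intro a b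
        change polar (tq Q φ) (φ a) (φ b) = _
        rw [polar_tq, φ.symm_apply_apply, φ.symm_apply_apply]
      have e2 : (H884.OmegaGL.bundle (⇑(tq Q φ)) hQ'') (φ w) = Q w := by
        change Q (φ.symm (φ w)) = _
        rw [φ.symm_apply_apply]
      have e3 : v = φ (φ.symm v) := (φ.apply_symm_apply v).symm
      rw [e2]
      conv_rhs => rw [e3, e1, e1]
      rw [φ.apply_symm_apply]
    rw [h2]
    exact siegel_mem_E hu' hw'
  obtain ⟨x, hx, hxe⟩ := h h1
  have : x = siegel Q u w hu hw := (cj φ).injective hxe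
  rw [← this]
  exact hx

/-- **groups of isometries of `Ω⁻₈(q)`, `q` odd, containing elements of order `r_8`, `r_6`** -/
theorem eight_abs (hA : ACase) {F : Type} [Field F] [Fintype F] {V : Type} [AddCommGroup V] [Module F V] [FiniteDimensional F V]
    {Q : QuadraticForm F V} (hQ : Nondeg Q) (hP : ¬ IsPlus Q) (hdim : finrank F V = 8)
    {H : Subgroup (V ≃ₗ[F] V)} (hH : H ≤ O Q) {p f r8 r6 : ℕ} (hp : p.Prime) (hf : 1 ≤ f) (hpf : Nat.card F = p ^ f)
    (h8 : PP p (f * 8) r8) (h6 : PP p (f * 6) r6) {a b : V ≃ₗ[F] V} (ha : a ∈ H) (hb : b ∈ H) (hoa : orderOf a = r8)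
    (hob : orderOf b = r6) : E Q ≤ H := by
  let φ : V ≃ₗ[F] (Fin 8 → F) := LinearEquiv.ofFinrankEq _ _ (by rw [Module.finrank_fintype_fun_eq_card, Fintype.card_fin, hdim])
  have hQ' := nondeg_tq hQ φ
  have hP' : ¬ IsPlus (tq Q φ) := fun h => hP (h.of_equiv φ.symm fun v => rfl)
  refine E_le_of_omega (n := 8) (by norm_num) hQ φ ?_
  by_contra hcon
  have hlt : H.map (cj φ).toMonoidHom ⊓ omegaGL (⇑(tq Q φ)) < omegaGL (⇑(tq Q φ)) :=
    lt_of_le_of_ne inf_le_right fun h => hcon (by rw [← h]; exact inf_le_left)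
  obtain ⟨M, hM, hle⟩ := exists_max hlt
  have hG : Good (tq Q φ) := LieClassical.OrthFinite.good_of_finite hQ' (by
    rw [Module.finrank_fintype_fun_eq_card, Fintype.card_fin]; norm_num)
  have hD : H390.Lift.Data (tq Q φ) := by
    obtain ⟨x, y, hxy⟩ := hG.exists_hyp
    refine H390.data_of _ (nondegenerate_of_nondeg hQ') (by rw [Fintype.card_fin]; norm_num) ⟨x, ?_, hxy.left⟩
      (Or.inr (by rw [Fintype.card_fin]; norm_num))
    rintro rfl
    have := hxy.pair
    rw [polar_zero_left] at this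
    exact zero_ne_one this
  have hmem : ∀ {c : V ≃ₗ[F] V}, c ∈ H → Odd (orderOf c) → cj φ c ∈ M := by
    intro c hc ho
    apply hle
    refine ⟨⟨c, hc, rfl⟩, ?_⟩
    obtain ⟨x, hx⟩ := exists_omega hD (cj_iso φ (hH hc)) ho (by rw [← map_pow, pow_orderOf_eq_one, map_one])
    exact ⟨x.1, x.2, hx⟩
  have hf8 := h8.odd (by omega)
  have hf6 := h6.odd (by omega)
  have ha' := hmem ha (by rw [hoa]; exact hf8)
  have hb' := hmem hb (by rw [hob]; exact hf6)
  have hoa' : orderOf (cj φ a) = r8 := by rw [← hoa]; exact MulEquiv.orderOf_eq _ a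
  have hob' : orderOf (cj φ b) = r6 := by rw [← hob]; exact MulEquiv.orderOf_eq _ b
  obtain ⟨K, hK, hMK⟩ := hA hp hf hpf h8 hQ' hP' hM ha' hoa'
  have hpa : PP (Nat.card F) 8 r8 := by rw [hpf]; exact h8.of_pow hf
  have hpb : PP (Nat.card F) 6 r6 := by rw [hpf]; exact h6.of_pow hf
  exact no_field2 hQ' (H := M) (hM.1.le.trans omega_le) hpa hpb (by rw [Fintype.card_fin]) (by decide) (by decide) (by norm_num)
    (by norm_num) (by decide) (by rw [← hoa']; exact Subgroup.orderOf_dvd_natCard M ha')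
    (by rw [← hob']; exact Subgroup.orderOf_dvd_natCard M hb') hK hMK

end E

theorem pp_seventeen : PP 17 6 13 := by
  refine ⟨by norm_num, ?_⟩
  rw [orderOf_eq_iff (by norm_num)]
  decide

/-- a primitive prime power of order six different from `7` -/
theorem lq_six {p f : ℕ} (hp : p.Prime) (hf : 1 ≤ f) (h2 : p ≠ 2) (hq : 9 ≤ p ^ f) :
    ∃ r a, PP p (f * 6) r ∧ 7 < r ^ a ∧ r ^ a ∣ (p ^ f) ^ 6 - 1 := by
  by_cases h17 : p = 17 ∧ f = 1
  · obtain ⟨rfl, rfl⟩ := h17
    exact ⟨13, 1, pp_seventeen, by norm_num, by norm_num⟩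
  · obtain ⟨r, hr⟩ := H951.Rl.exists_big hp hf (k := 6) le_rfl (by
      simp only [List.mem_cons, Prod.mk.injEq, List.not_mem_nil, or_false]
      rintro (h | h | h | h | h | h | h | h | h | h | h | h)
      all_goals first
        | exact h2 h.1
        | exact h17 ⟨h.1, h.2.1⟩
        | (obtain ⟨rfl, rfl, -⟩ := h; norm_num at hq))
    exact ⟨r, _, ⟨hr.prime, hr.ord⟩, by have := hr.big; omega, hr.dvd⟩

section ctx

variable {F : Type} [Field F] [Fintype F]
variable {G : Type u} [Group G] [Finite G] {T : Subgroup G} [T.Normal] {hG : Good (oddForm 4 F)}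
  {eT : T ≃* POmega F (⇑(oddForm 4 F))} {hI : Ind (eP hG eT)} {X Y : Subgroup G} {p f : ℕ}

namespace Ctx

theorem point9 (h : Ctx hI X Y p f 4) (hR : S5836Stmt) (hA : ACase) (hodd : Odd (Fintype.card F)) (hq : 9 ≤ p ^ f)
    {v : Unit ⊕ (Fin 4 ⊕ Fin 4) → F} (hv : Pt hI X v) (h8 : Has T X p f 8) : ResB hI X 4 v := by
  by_cases h6 : Has T X p f 6
  · obtain ⟨r8, hr8, hd8⟩ := h8
    obtain ⟨r6, hr6, hd6⟩ := h6
    obtain ⟨x, hx, hox⟩ := h.elt1 hr8 (by norm_num) (by norm_num) hd8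
    obtain ⟨y, hy, hoy⟩ := h.elt1 hr6 (by norm_num) (by norm_num) hd6
    have hxv := hv.fix_of_odd h.two_ne hx (by rw [hox]; simpa using h.odd_of_pp hr8 (by norm_num) 1)
    have hyv := hv.fix_of_odd h.two_ne hy (by rw [hoy]; simpa using h.odd_of_pp hr6 (by norm_num) 1)
    have hnd : Nondeg (res (oddForm 4 F) (perp (oddForm 4 F) (F ∙ v))) :=
      nondeg_perp hG.nondeg (nondeg_line h.two_ne hv.ne)
    have hU := h.finrank_U hv
    have hE := eight_abs hA hnd hv.minus hU (resG_le_O (U := perp (oddForm 4 F) (F ∙ v)) (preG_le (eT := eT) (X := X)))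
      h.prime h.pos h.card hr8 hr6 (rst_mem (hv.le_perp hx) hx) (rst_mem (hv.le_perp hy) hy)
      (by rw [orderOf_rst h.two_ne hv.ne hxv, hox]) (by rw [orderOf_rst h.two_ne hv.ne hyv, hoy])
    have hGU : Good (res (oddForm 4 F) (perp (oddForm 4 F) (F ∙ v))) :=
      LieClassical.OrthFinite.good_of_finite hnd (by rw [hU]; norm_num)
    exact ⟨h.dim, hv.ne, hv.minus, hv.fix, fun u w hu hw huv hwv =>
      sieg_of hv.ne h.two_ne preG_le (fun g hg => hv.sgn hg) hGU hE hu hw huv hwv⟩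
  · exfalso
    obtain ⟨r, a, hr, hb, hd⟩ := lq_six h.prime h.pos h.podd hq
    have hn : NN p f 6 r a := ⟨h.prime, h.pos, hr, Or.inr ⟨rfl, hb⟩⟩
    rcases h.side (i := 3) (by norm_num) (by norm_num) (by norm_num) hr with h1 | h1
    · exact h6 ⟨r, hr, (dvd_pow_self r hn.ha).trans (h1 a hd)⟩
    · have h2 := h1 a hd
      rcases h.symm.nine_elt hR hodd (by omega) hn h2 with h3 | ⟨-, K, hK, hle⟩
      · exact h.no_red' hv.ne0 hv.fix (k := 6) (by norm_num) (by norm_num) ⟨r, hr, (dvd_pow_self r hn.ha).trans h2⟩ h3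
      · exact h.four_kill hv fun r hr => h.symm.no_four hK hle hr

/-- **`Ω_9(q)`** -/
theorem main9 (h : Ctx hI X Y p f 4) (hR : S5836Stmt) (hA : ACase) (hodd : Odd (Fintype.card F)) (hq : 9 ≤ p ^ f) :
    ∃ v, ResB hI X 4 v ∨ ResB hI Y 4 v := by
  obtain ⟨r, a, hr, hb, hd⟩ := lp_of h.prime h.pos h.podd (k := 8) le_rfl (by omega)
  have hn : NN p f 8 r a := ⟨h.prime, h.pos, hr, Or.inl ⟨rfl, by omega⟩⟩
  rcases h.side (i := 4) (by norm_num) (by norm_num) (by norm_num) hr with h1 | h1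
  · have h2 := h1 a hd
    have h3 : Has T X p f (2 * 4) := ⟨r, hr, (dvd_pow_self r hn.ha).trans h2⟩
    rcases h.nine_elt hR hodd (by omega) hn h2 with h4 | ⟨h4, -⟩
    · obtain ⟨v, hv⟩ := h.pt_of_red (by norm_num) h3 h4
      exact ⟨v, Or.inl (h.point9 hR hA hodd hq hv h3)⟩
    · omega
  · have h2 := h1 a hd
    have h3 : Has T Y p f (2 * 4) := ⟨r, hr, (dvd_pow_self r hn.ha).trans h2⟩
    rcases h.symm.nine_elt hR hodd (by omega) hn h2 with h4 | ⟨h4, -⟩
    · obtain ⟨v, hv⟩ := h.symm.pt_of_red (by norm_num) h3 h4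
      exact ⟨v, Or.inr (h.symm.point9 hR hA hodd hq hv h3)⟩
    · omega

end Ctx

end ctx

/-- **no factorization of `Ω_9(q)`, `q ≥ 9`** -/
theorem false9 (hR : S5836Stmt) (hA : ACase) {G : Type u} [Group G] [Finite G] {T X Y : Subgroup G} {F : Type} [Field F]
    [Fintype F] (hodd : Odd (Fintype.card F)) (hq : 9 ≤ Fintype.card F) (hf : Fac T X Y)
    (hT : Nonempty (T ≃* POmega F (quadFormOdd 4 F))) : False := by
  obtain ⟨p, f, hp, hf1, hF'⟩ := exists_char F
  have hF : Fintype.card F = p ^ f := by rw [← Nat.card_eq_fintype_card]; exact hF'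
  have := hf.normal
  obtain ⟨hG, eT, hI, h⟩ := exists_ctx (by norm_num) hp hf1 hF hodd hf hT
  obtain ⟨e⟩ := hT
  exact h.false_of (by norm_num) hodd e (h.main9 hR hA hodd (by rw [← hF]; exact hq))

end Cfsg.Agent.H449.Reg
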