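import Cfsg.Agent.H449.Reg.Abs
import Cfsg.Agent.H449.Reg.Fix
import Cfsg.Agent.H449.Reg.ResB
import Cfsg.Agent.H193.Dg.Orth
import Cfsg.Agent.H884.ElRows

/-!
# S3691, section 5: `Ω_{2m+1}(q)`, `q` odd (helper449)

* `Ctx hI X Y p f m` : a factorization of a group with socle `T ≃* PΩ(Q)`, `dim = 2 m + 1`, `|F| = p ^ f`, `p` odd
* `Ctx.side` : each primitive prime of order `k > m` lies, with its full power, in one of the factors
* `Has X k`, `Big X k`
-/

set_option autoImplicit false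
set_option linter.unusedSectionVars false

namespace Cfsg.Agent.H449.Reg

open Module QuadraticMap Cfsg Cfsg.Geo Cfsg.Agent.LieClassical.OrthCore Cfsg.Agent.LieClassical.OrthTrans
  Cfsg.Agent.H454.Reg Cfsg.Agent.H884.El Cfsg.Agent.H955 Cfsg.Agent.H954.TSing Cfsg.Agent.H193.Dg Cfsg.Agent.H851.Dg
open Cfsg.Agent.H951 (fx cm Inv)
open Cfsg.Agent.H278.Cov (Red Ext Num)
open scoped MatrixGroups Matrix

universe u v

variable {ι : Type} [Fintype ι] [DecidableEq ι] {F : Type v} [Field F] [Fintype F] {Q : QuadraticForm F (ι → F)}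
variable {G : Type u} [Group G] [Finite G] {T : Subgroup G} [T.Normal] {hG : Good Q} {eT : T ≃* POmega F (⇑Q)}
  {hI : Ind (eP hG eT)} {X Y : Subgroup G} {p f m : ℕ}

/-- a factorization of a group with socle `Ω_{2m+1}(q)` -/
structure Ctx (hI : Ind (eP hG eT)) (X Y : Subgroup G) (p f m : ℕ) : Prop where
  fac : Fac T X Y
  prime : p.Prime
  pos : 1 ≤ f
  card : Nat.card F = p ^ f
  podd : p ≠ 2
  dim : Fintype.card ι = 2 * m + 1
  data : H390.Lift.Data Q
  dvd : ∀ i r a, 1 ≤ i → i ≤ m → 3 ≤ 2 * i → PP p (f * (2 * i)) r → r ^ a ∣ (p ^ f) ^ (2 * i) - 1 → r ^ a ∣ Nat.card T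
  out : ∀ k r, 3 ≤ k → PP p (f * k) r → ¬ r ∣ Nat.card (Cfsg.Out T)

/-- the order of `X ∩ T` is divisible by a primitive prime of order `k` -/
def Has (T : Subgroup G) (X : Subgroup G) (p f k : ℕ) : Prop := ∃ r, PP p (f * k) r ∧ r ∣ Nat.card (X.subgroupOf T)

/-- the order of `X ∩ T` is divisible by a large power of a primitive prime of order `k` -/
def Big (T : Subgroup G) (X : Subgroup G) (p f k : ℕ) : Prop :=
  ∃ r a, PP p (f * k) r ∧ 2 * k + 1 < r ^ a ∧ r ^ a ∣ (p ^ f) ^ k - 1 ∧ r ^ a ∣ Nat.card (X.subgroupOf T)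

/-- existence of a large power of a primitive prime of order `k` -/
def LP (p f k : ℕ) : Prop := ∃ r a, PP p (f * k) r ∧ 2 * k + 1 < r ^ a ∧ r ^ a ∣ (p ^ f) ^ k - 1

theorem Big.has {k : ℕ} (h : Big T X p f k) : Has T X p f k := by
  obtain ⟨r, a, hr, hb, -, hd⟩ := h
  have ha : a ≠ 0 := by
    rintro rfl
    rw [pow_zero] at hb
    omega
  exact ⟨r, hr, (dvd_pow_self r ha).trans hd⟩

namespace Ctx

theorem symm (h : Ctx hI X Y p f m) : Ctx hI Y X p f m :=
  ⟨h.fac.symm, h.prime, h.pos, h.card, h.podd, h.dim, h.data, h.dvd, h.out⟩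

theorem two_ne (h : Ctx hI X Y p f m) : (2 : F) ≠ 0 := by
  intro h2
  have h3 : ((2 : ℕ) : F) = 0 := by exact_mod_cast h2
  obtain ⟨c, hc⟩ := CharP.exists F
  obtain ⟨n, hn, hn'⟩ := FiniteField.card F c
  have h4 : c ∣ 2 := (CharP.cast_eq_zero_iff F c 2).1 h3
  have h5 : c = 2 := (Nat.prime_dvd_prime_iff_eq hn Nat.prime_two).1 h4
  rw [← Nat.card_eq_fintype_card, h.card] at hn'
  have h6 : p ∣ c ^ (n : ℕ) := by rw [← hn']; exact dvd_pow_self p (by have := h.pos; omega)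
  have h7 : p = c := (Nat.prime_dvd_prime_iff_eq h.prime hn).1 (h.prime.dvd_of_dvd_pow h6)
  exact h.podd (h7.trans h5)

theorem pp (h : Ctx hI X Y p f m) {k r : ℕ} (hr : PP p (f * k) r) : PP (Nat.card F) k r := by
  rw [h.card]; exact hr.of_pow h.pos

/-- the Sylow subgroups for large primitive primes are cyclic -/
theorem cyc (h : Ctx hI X Y p f m) {k r : ℕ} (hr : PP p (f * k) r) (hk : 2 ≤ k) (hmk : 2 * m + 1 < 2 * k)
    (P : Subgroup T) (hP : IsPGroup r P) : IsCyclic P := by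
  have hrq := h.pp hr
  have h1 : CycP r (⊤ : Subgroup (POmega F (⇑Q))) := cycP_of hrq hk (fun g _ hgr hg1 =>
    (elt_data hrq hk (by rw [h.dim]; exact hmk) (by rw [← H251.GeoCard.toLin_pow, hgr]; exact lin_one)
      (lin_ne_one hg1)).2.1)
  let φ : T →* (⊤ : Subgroup (POmega F (⇑Q))) := (Subgroup.topEquiv.symm : POmega F (⇑Q) ≃* _).toMonoidHom.comp eT.toMonoidHom
  have hφ : Function.Injective φ := Subgroup.topEquiv.symm.injective.comp eT.injective
  have h2 := h1 (P.map φ) (hP.map φ)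
  exact isCyclic_of_surjective (P.equivMapOfInjective φ hφ).symm.toMonoidHom (MulEquiv.surjective _)

/-- a large primitive prime of even order lies in one of the factors with its full power -/
theorem side (h : Ctx hI X Y p f m) {i r : ℕ} (hi : 3 ≤ 2 * i) (him : i ≤ m) (hmi : 2 * m + 1 < 2 * (2 * i))
    (hr : PP p (f * (2 * i)) r) :
    (∀ a, r ^ a ∣ (p ^ f) ^ (2 * i) - 1 → r ^ a ∣ Nat.card (X.subgroupOf T)) ∨
      (∀ a, r ^ a ∣ (p ^ f) ^ (2 * i) - 1 → r ^ a ∣ Nat.card (Y.subgroupOf T)) := by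
  have hfT : Finite T := inferInstance
  have hX0 : Nat.card (X.subgroupOf T) ≠ 0 := Nat.card_pos.ne'
  have hY0 : Nat.card (Y.subgroupOf T) ≠ 0 := Nat.card_pos.ne'
  have hT0 : Nat.card T ≠ 0 := Nat.card_pos.ne'
  have hv := h.fac.val_eq (h.out _ r hi hr)
  have hnb := h.fac.not_both hr.prime (h.cyc hr (by omega) hmi)
  by_cases hX : r ∣ Nat.card (X.subgroupOf T)
  · left
    have hY : ¬ r ∣ Nat.card (Y.subgroupOf T) := fun hY => hnb hX hY
    rw [Nat.factorization_eq_zero_of_not_dvd hY, add_zero] at hv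
    intro a ha
    have h1 := h.dvd i r a (by omega) him hi hr ha
    rw [hr.prime.pow_dvd_iff_le_factorization hT0] at h1
    rw [hr.prime.pow_dvd_iff_le_factorization hX0, hv]
    exact h1
  · right
    rw [Nat.factorization_eq_zero_of_not_dvd hX, zero_add] at hv
    intro a ha
    have h1 := h.dvd i r a (by omega) him hi hr ha
    rw [hr.prime.pow_dvd_iff_le_factorization hT0] at h1
    rw [hr.prime.pow_dvd_iff_le_factorization hY0, hv]
    exact h1

theorem big_side (h : Ctx hI X Y p f m) {i : ℕ} (hi : 3 ≤ 2 * i) (him : i ≤ m) (hmi : 2 * m + 1 < 2 * (2 * i))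
    (hL : LP p f (2 * i)) : Big T X p f (2 * i) ∨ Big T Y p f (2 * i) := by
  obtain ⟨r, a, hr, hb, hd⟩ := hL
  rcases h.side hi him hmi hr with h1 | h1
  · exact Or.inl ⟨r, a, hr, hb, hd, h1 a hd⟩
  · exact Or.inr ⟨r, a, hr, hb, hd, h1 a hd⟩

theorem has_side (h : Ctx hI X Y p f m) {i : ℕ} (hi : 3 ≤ 2 * i) (him : i ≤ m) (hmi : 2 * m + 1 < 2 * (2 * i)) :
    Has T X p f (2 * i) ∨ Has T Y p f (2 * i) := by
  obtain ⟨r, hr⟩ := exists_pp (q := p) (e := f * (2 * i)) h.prime.two_le (by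
    have := Nat.mul_le_mul h.pos hi; omega) (fun h1 => h.podd h1.1)
  have hd : r ^ 1 ∣ (p ^ f) ^ (2 * i) - 1 := by
    rw [pow_one, ← pow_mul]
    exact (hr.dvd_iff h.prime.one_le _).2 dvd_rfl
  rcases h.side hi him hmi hr with h1 | h1
  · exact Or.inl ⟨r, hr, by simpa using h1 1 hd⟩
  · exact Or.inr ⟨r, hr, by simpa using h1 1 hd⟩

end Ctx

end Cfsg.Agent.H449.Reg
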