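import Cfsg.Agent.H449.Reg.OddB
import Cfsg.Agent.H370.Rg.Zsig
import Cfsg.Agent.H370.Rg.Size
import Cfsg.Agent.H884.ElFin
import Cfsg.Agent.AutOrth.Final
import Cfsg.Agent.S0292

/-!
# S3691, section 5: the context of `PΩ_{2m+1}(q)` (helper449)
-/

set_option autoImplicit false
set_option linter.unusedSectionVars false

namespace Cfsg.Agent.H449.Reg

open Module QuadraticMap Cfsg Cfsg.Geo Cfsg.Agent.LieClassical.OrthCore Cfsg.Agent.LieClassical.OrthTrans
  Cfsg.Agent.H454.Reg Cfsg.Agent.H884.El Cfsg.Agent.H955 Cfsg.Agent.H954.TSing Cfsg.Agent.H193.Dg Cfsg.Agent.H851.Dg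
open Cfsg.Agent.LieClassical.OrthForms (oddForm coe_oddForm)
open Cfsg.Agent.LieClassical.OmegaReindex
open scoped MatrixGroups Matrix

universe u

variable {G : Type u} [Group G] [Finite G] {T X Y : Subgroup G}

theorem quadOdd_eq (F : Type) [Field F] (m : ℕ) : oddForm m F = quadOdd m F := by
  apply DFunLike.coe_injective
  rw [coe_oddForm, coe_quadOdd]

/-- **the context** -/
theorem exists_ctx {F : Type} [Field F] [Fintype F] {m p f : ℕ} (hm : 3 ≤ m) (hp : p.Prime) (hf1 : 1 ≤ f)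
    (hF : Fintype.card F = p ^ f) (hodd : Odd (Fintype.card F)) [T.Normal] (hf : Fac T X Y)
    (hT : Nonempty (T ≃* POmega F (quadFormOdd m F))) :
    ∃ (hG : Good (oddForm m F)) (eT : T ≃* POmega F (⇑(oddForm m F))) (hI : Ind (eP hG eT)), Ctx hI X Y p f m := by
  have h2 := H390.two_ne_zero_of_odd hodd
  have hQ : Nondeg (oddForm m F) := by
    rw [quadOdd_eq]
    exact nondeg_iff.2 (quadOdd_nondegenerate h2)
  have hd : Module.finrank F (Unit ⊕ (Fin m ⊕ Fin m) → F) = 2 * m + 1 := by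
    rw [Module.finrank_fintype_fun_eq_card, card_odd]
  have hG : Good (oddForm m F) := LieClassical.OrthFinite.good_of_finite hQ (by rw [hd]; omega)
  obtain ⟨e⟩ := hT
  have hp2 : p ≠ 2 := by
    rintro rfl
    rw [hF] at hodd
    exact (Nat.not_odd_iff_even.2 ((Nat.even_pow.2 ⟨even_two, by omega⟩))) hodd
  have h1 : Nonempty (T ≃* POmega F (⇑(oddForm m F))) := by rw [coe_oddForm]; exact ⟨e⟩
  obtain ⟨eT⟩ := h1
  refine ⟨hG, eT, ind_of_surjective _ (AutOrth.Final.surjective_odd hm h2), hf, hp, hf1, by rw [Nat.card_eq_fintype_card, hF], hp2,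
    card_odd m, by rw [quadOdd_eq]; exact data_odd hm h2, ?_, ?_⟩
  · intro i r a hi him hi3 hr hd
    have h3 := S0292.result (F := F) hF (by rw [← hF]; exact hodd) m hm
    have h4 : (p ^ f) ^ (2 * i) - 1 ∣ 2 * Nat.card T := by
      rw [Nat.card_congr e.toEquiv, h3]
      apply Dvd.dvd.mul_left
      have h5 := Finset.dvd_prod_of_mem (fun j => (p ^ f) ^ (2 * (j + 1)) - 1) (Finset.mem_range.2 (show i - 1 < m by omega))
      rwa [Nat.sub_add_cancel hi] at h5
    have h6 := hr.lt (by have := Nat.mul_le_mul hf1 hi3; omega)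
    have h7 : 1 * (2 * i) ≤ f * (2 * i) := Nat.mul_le_mul_right _ hf1
    have h8 : Nat.Coprime (r ^ a) 2 := Nat.Coprime.pow_left _ ((Nat.coprime_primes hr.prime Nat.prime_two).2 (by omega))
    exact h8.dvd_of_dvd_mul_left (hd.trans h4)
  · intro k r hk hr
    have := hf.simple
    exact H370.Rg.out_oodd hf.nonab hp hf1 hF hm (by rw [← hF]; exact hodd) ⟨e⟩ hr.prime hk hr.ord

end Cfsg.Agent.H449.Reg
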