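import Cfsg.Agent.H884.ElRows
import Mathlib.FieldTheory.Finite.Basic

/-!
# S3691: no quadratic field commutes with isometries of two different parities (helper449)

* `no_quadratic_parity` : abstract form
* `no_field2` : a group of isometries of dimension `j`, of order divisible by `r_j` and `r_k`, `j`, `k` even, `j / 2`, `k / 2` of
  different parity, `j < 2 k`, normalises no field of matrices of degree two.
-/

set_option autoImplicit false

namespace Cfsg.Agent.H449.Reg

open Module QuadraticMap Cfsg.Geo Cfsg.Agent.LieClassical.OrthCore Cfsg.Agent.H955 Cfsg.Agent.H954.TSing Cfsg.Agent.H884.El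
open Cfsg.Agent.H951 (fx cm Inv)
open scoped MatrixGroups Matrix Polynomial

universe u v

section Abs

variable {F : Type u} [Field F] {V : Type v} [AddCommGroup V] [Module F V]
  {Q : QuadraticForm F V} {z J : Module.End F V}

theorem commute_aeval {z J : Module.End F V} (h : ∀ v, J (z v) = z (J v)) (P : F[X]) (v : V) :
    J (Polynomial.aeval z P v) = Polynomial.aeval z P (J v) := by
  have h1 : Commute J z := LinearMap.ext h
  have h2 : Commute J (Polynomial.aeval z P) := by
    induction P using Polynomial.induction_on' with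
    | add p q hp hq => rw [map_add]; exact hp.add_right hq
    | monomial n a =>
      rw [Polynomial.aeval_monomial]
      exact Commute.mul_right (show Commute J (algebraMap F (Module.End F V) a) from (Algebra.commutes a J).symm)
        (h1.pow_right n)
  exact congrArg (fun e : Module.End F V => e v) h2.eq

/-- an endomorphism commuting with `z`, `z` irreducible on `U`, is a polynomial in `z` on `U` -/
theorem exists_poly {U : Submodule F V} (hU : Inv z U) (hirr : ∀ W ≤ U, Inv z W → W = ⊥ ∨ W = U)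
    (hJU : ∀ u ∈ U, J u ∈ U) (hJz : ∀ v, J (z v) = z (J v)) :
    ∃ P : F[X], ∀ u ∈ U, J u = Polynomial.aeval z P u := by
  by_cases h0 : U = ⊥
  · refine ⟨0, fun u hu => ?_⟩
    rw [h0, Submodule.mem_bot] at hu
    rw [hu, map_zero, map_zero]
  obtain ⟨u₀, hu₀, hne⟩ := Submodule.exists_mem_ne_zero_of_ne_bot h0
  let φ : F[X] →ₗ[F] V :=
    { toFun := fun P => Polynomial.aeval z P u₀
      map_add' := fun P R => by rw [map_add]; rfl
      map_smul' := fun a P => by rw [map_smul]; rfl }
  have hzU : ∀ P : F[X], ∀ u ∈ U, Polynomial.aeval z P u ∈ U := by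
    intro P
    induction P using Polynomial.induction_on' with
    | add p q hp hq =>
      intro u hu
      rw [map_add]
      exact U.add_mem (hp u hu) (hq u hu)
    | monomial n a =>
      intro u hu
      rw [Polynomial.aeval_monomial]
      have h1 : (z ^ n) u ∈ U := by
        induction n with
        | zero => exact hu
        | succ n ih => rw [pow_succ']; exact hU _ ih
      exact U.smul_mem a h1
  have hW : LinearMap.range φ = U := by
    rcases hirr (LinearMap.range φ) (by
      rintro _ ⟨P, rfl⟩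
      exact hzU P u₀ hu₀) (by
      rintro _ ⟨P, rfl⟩
      refine ⟨Polynomial.X * P, ?_⟩
      change Polynomial.aeval z (Polynomial.X * P) u₀ = z (Polynomial.aeval z P u₀)
      rw [map_mul, Polynomial.aeval_X]
      rfl) with h | h
    · exfalso
      have h1 : u₀ ∈ LinearMap.range φ := ⟨1, by
        change Polynomial.aeval z 1 u₀ = u₀
        rw [map_one]; rfl⟩
      rw [h, Submodule.mem_bot] at h1
      exact hne h1
    · exact h
  have hmem : ∀ u ∈ U, ∃ P : F[X], Polynomial.aeval z P u₀ = u := by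
    intro u hu
    rw [← hW] at hu
    exact hu
  obtain ⟨P, hP⟩ := hmem _ (hJU _ hu₀)
  refine ⟨P, fun u hu => ?_⟩
  obtain ⟨R, rfl⟩ := hmem u hu
  rw [commute_aeval hJz, ← hP]
  have h1 : Polynomial.aeval z R (Polynomial.aeval z P u₀) = Polynomial.aeval z (R * P) u₀ := by rw [map_mul]; rfl
  have h2 : Polynomial.aeval z P (Polynomial.aeval z R u₀) = Polynomial.aeval z (P * R) u₀ := by rw [map_mul]; rfl
  rw [h1, h2, mul_comm]

theorem polar_pow_isom (hz : ∀ v, Q (z v) = Q v) (n : ℕ) (u w : V) : polar Q ((z ^ n) u) ((z ^ n) w) = polar Q u w :=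
  polar_isom (x := z ^ n) (isom_pow hz n) u w

theorem polar_aeval (hz : ∀ v, Q (z v) = Q v) {z' : Module.End F V} (hzz : z * z' = 1) (hcomm : Commute z z') (P : F[X])
    (u w : V) : polar Q (Polynomial.aeval z P u) w = polar Q u (Polynomial.aeval z' P w) := by
  induction P using Polynomial.induction_on' with
  | add p q hp hq =>
    rw [map_add, map_add]
    change polar Q (Polynomial.aeval z p u + Polynomial.aeval z q u) w =
      polar Q u (Polynomial.aeval z' p w + Polynomial.aeval z' q w)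
    rw [polar_add_left, polar_add_right, hp, hq]
  | monomial n a =>
    rw [Polynomial.aeval_monomial, Polynomial.aeval_monomial]
    change polar Q (a • (z ^ n) u) w = polar Q u (a • (z' ^ n) w)
    rw [polar_smul_left, polar_smul_right]
    congr 1
    have h1 : w = (z ^ n) ((z' ^ n) w) := by
      have : z ^ n * z' ^ n = 1 := by rw [← hcomm.mul_pow, hzz, one_pow]
      exact (congrArg (fun e : Module.End F V => e w) this).symm
    conv_lhs => rw [h1]
    exact polar_pow_isom hz n u _

theorem aeval_pow_card [Fintype F] (z : Module.End F V) (P : F[X]) (h : ℕ) :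
    Polynomial.aeval (z ^ Fintype.card F ^ h) P = (Polynomial.aeval z P) ^ Fintype.card F ^ h := by
  induction h with
  | zero => rw [pow_zero, pow_one, pow_one]
  | succ h ih =>
    rw [pow_succ, pow_mul, pow_mul, ← ih]
    generalize z ^ Fintype.card F ^ h = y
    rw [← map_pow, ← FiniteField.expand_card, Polynomial.expand_aeval]

/-- the adjoint of `J` on a subspace on which the isometry `z`, `z ^ (q ^ h + 1) = 1`, acts irreducibly -/
theorem adj [Fintype F] {U : Submodule F V} (hz : ∀ v, Q (z v) = Q v) {h : ℕ} (hzh : z ^ (Fintype.card F ^ h + 1) = 1)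
    (hU : Inv z U) (hirr : ∀ W ≤ U, Inv z W → W = ⊥ ∨ W = U) (hJU : ∀ u ∈ U, J u ∈ U) (hJz : ∀ v, J (z v) = z (J v))
    {u w : V} (hu : u ∈ U) (hw : w ∈ U) : polar Q (J u) w = polar Q u ((J ^ Fintype.card F ^ h) w) := by
  obtain ⟨P, hP⟩ := exists_poly hU hirr hJU hJz
  have hc : Commute z (z ^ Fintype.card F ^ h) := (Commute.refl z).pow_right _
  rw [hP u hu, polar_aeval hz (z' := z ^ Fintype.card F ^ h) (by rw [← pow_succ', hzh]) hc, aeval_pow_card]
  have key : ∀ n : ℕ, ∀ w ∈ U, ((Polynomial.aeval z P) ^ n) w = (J ^ n) w ∧ (J ^ n) w ∈ U := by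
    intro n
    induction n with
    | zero => intro w hw; exact ⟨rfl, hw⟩
    | succ n ih =>
      intro w hw
      obtain ⟨h1, h2⟩ := ih (J w) (hJU w hw)
      rw [pow_succ, pow_succ]
      refine ⟨?_, h2⟩
      change ((Polynomial.aeval z P) ^ n) (Polynomial.aeval z P w) = (J ^ n) (J w)
      rw [← hP w hw, h1]
  rw [(key _ w hw).1]

/-- **two parities** -/
theorem no_quadratic_parity [Fintype F] {x y : Module.End F V} {h₁ h₂ : ℕ} {W : Submodule F V}
    (hx : ∀ v, Q (x v) = Q v) (hy : ∀ v, Q (y v) = Q v) (hxh : x ^ (Fintype.card F ^ h₁ + 1) = 1)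
    (hyh : y ^ (Fintype.card F ^ h₂ + 1) = 1) (hpar : Odd (h₁ + h₂))
    (hxi : ∀ U : Submodule F V, Inv x U → U = ⊥ ∨ U = ⊤) (hWi : Inv y W)
    (hyi : ∀ U ≤ W, Inv y U → U = ⊥ ∨ U = W) (hW0 : W ≠ ⊥) (hWn : Nondeg (res Q W))
    (hJx : ∀ v, J (x v) = x (J v)) (hJy : ∀ v, J (y v) = y (J v)) (hJW : ∀ w ∈ W, J w ∈ W)
    (hJ : J ^ Fintype.card F ^ 2 = J) (hinj : ∀ w, (J ^ Fintype.card F) w = J w → w = 0) : False := by
  -- powers of `J`
  have hev : ∀ i : ℕ, J ^ Fintype.card F ^ (2 * i) = J := by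
    intro i
    induction i with
    | zero => rw [mul_zero, pow_zero, pow_one]
    | succ i ih => rw [show 2 * (i + 1) = 2 * i + 2 by ring, pow_add, pow_mul, ih, hJ]
  have hod : ∀ i : ℕ, J ^ Fintype.card F ^ (2 * i + 1) = J ^ Fintype.card F := by
    intro i
    rw [pow_succ, pow_mul, hev]
  have hpw : ∀ n : ℕ, ∀ w ∈ W, (J ^ n) w ∈ W := by
    intro n
    induction n with
    | zero => intro w hw; exact hw
    | succ n ih => intro w hw; rw [pow_succ']; exact hJW _ (ih w hw)
  have h1 : ∀ u ∈ W, ∀ w ∈ W, polar Q u ((J ^ Fintype.card F ^ h₁) w) = polar Q u ((J ^ Fintype.card F ^ h₂) w) := by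
    intro u hu w hw
    rw [← adj (J := J) hx hxh (U := ⊤) (fun _ _ => trivial) (fun U _ hU => hxi U hU) (fun _ _ => trivial) hJx
      (Submodule.mem_top (x := u)) (Submodule.mem_top (x := w)), adj (J := J) hy hyh hWi hyi hJW hJy hu hw]
  have h2 : ∀ u ∈ W, ∀ w ∈ W, polar Q u ((J ^ Fintype.card F) w - J w) = 0 := by
    intro u hu w hw
    rw [polar_sub_right]
    rcases Nat.even_or_odd h₁ with h | h
    · obtain ⟨i, hi⟩ := h
      have h' : Odd h₂ := by
        rcases Nat.even_or_odd h₂ with h3 | h3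
        · exfalso
          exact (Nat.not_odd_iff_even.2 (Even.add ⟨i, hi⟩ h3)) hpar
        · exact h3
      obtain ⟨j, hj⟩ := h'
      have h3 := h1 u hu w hw
      rw [hj, hod, hi, ← two_mul, hev] at h3
      rw [← h3, sub_self]
    · obtain ⟨i, hi⟩ := h
      have h' : Even h₂ := by
        rcases Nat.even_or_odd h₂ with h3 | h3
        · exact h3
        · exfalso
          exact (Nat.not_odd_iff_even.2 (Odd.add_odd ⟨i, hi⟩ h3)) hpar
      obtain ⟨j, hj⟩ := h'
      have h3 := h1 u hu w hw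
      rw [hi, hod, hj, ← two_mul, hev] at h3
      rw [h3, sub_self]
  obtain ⟨w, hw, hw0⟩ := Submodule.exists_mem_ne_zero_of_ne_bot hW0
  apply hw0
  apply hinj
  have h3 : (⟨(J ^ Fintype.card F) w - J w, W.sub_mem (hpw _ w hw) (hJW w hw)⟩ : W) = 0 := by
    apply hWn
    intro u
    rw [polar_res, polar_comm]
    exact h2 u u.2 w hw
  exact sub_eq_zero.1 (congrArg Subtype.val h3)

end Abs

section Mat

variable {ι : Type} [Fintype ι] [DecidableEq ι] {F : Type u} [Field F] [Fintype F] {Q : QuadraticForm F (ι → F)}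
  {H : Subgroup (GL ι F)} {j k r s : ℕ}

/-- a primitive element of a quadratic field of matrices -/
theorem exists_prim [Nonempty ι] {K : Subalgebra F (Matrix ι ι F)} (hK : IsFieldSubalgebra 2 K) :
    ∃ J ∈ K, J ^ Fintype.card F ^ 2 = J ∧ ∀ w : ι → F, (J ^ Fintype.card F) *ᵥ w = J *ᵥ w → w = 0 := by
  let _ : Field K := (H912.isField_of_fieldSub hK).toField
  have hfd : Module.Finite F K := inferInstance
  have hKfin : Finite K := Module.finite_of_finite F
  have hcard : Nat.card K = Fintype.card F ^ 2 := by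
    rw [Module.natCard_eq_pow_finrank (K := F), hK.finrank_eq, Nat.card_eq_fintype_card]
  have hq : 1 < Fintype.card F := Fintype.one_lt_card
  obtain ⟨J, hJ⟩ := IsCyclic.exists_generator (α := Kˣ)
  have ho : orderOf J = Fintype.card F ^ 2 - 1 := by
    rw [← hcard, ← Nat.card_units, ← Nat.card_zpowers]
    have : Subgroup.zpowers J = ⊤ := by
      rw [eq_top_iff]; intro z _; exact hJ z
    rw [this, Subgroup.card_top]
  have hq2 : 1 ≤ Fintype.card F ^ 2 := Nat.one_le_pow _ _ (by omega)
  refine ⟨((J : K) : Matrix ι ι F), (J : K).2, ?_, ?_⟩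
  · have h1 : (J : K) ^ Fintype.card F ^ 2 = J := by
      have h2 : J ^ (Fintype.card F ^ 2) = J := by
        conv_lhs => rw [← Nat.sub_add_cancel hq2]
        rw [pow_succ, ← ho, pow_orderOf_eq_one, one_mul]
      exact congrArg Units.val h2
    exact congrArg Subtype.val h1
  · intro w hw
    set a : K := (J : K) ^ Fintype.card F - J with ha
    have ha0 : a ≠ 0 := by
      intro h0
      have h1 : (J : K) ^ Fintype.card F = J := sub_eq_zero.1 h0
      have h2 : J ^ (Fintype.card F - 1) = 1 := by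
        have h3 : J ^ Fintype.card F = J := Units.ext h1
        have h4 : J ^ (Fintype.card F - 1) * J = 1 * J := by
          rw [← pow_succ, Nat.sub_add_cancel hq.le, h3, one_mul]
        exact mul_right_cancel h4
      have h3 := orderOf_dvd_of_pow_eq_one h2
      rw [ho] at h3
      have h4 := Nat.le_of_dvd (by omega) h3
      have h5 : Fintype.card F < Fintype.card F ^ 2 := by nlinarith
      omega
    have h1 : (a⁻¹ * a : K) = 1 := inv_mul_cancel₀ ha0
    have h2 : ((a⁻¹ : K) : Matrix ι ι F) * ((a : K) : Matrix ι ι F) = 1 := congrArg Subtype.val h1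
    have h3 : ((a : K) : Matrix ι ι F) *ᵥ w = 0 := by
      have h4 : ((a : K) : Matrix ι ι F) = ((J : K) : Matrix ι ι F) ^ Fintype.card F - ((J : K) : Matrix ι ι F) := rfl
      rw [h4, Matrix.sub_mulVec, hw, sub_self]
    rw [← Matrix.one_mulVec w, ← h2, ← Matrix.mulVec_mulVec, h3, Matrix.mulVec_zero]

/-- **no quadratic field for two parities** -/
theorem no_field2 (hQ : Nondeg Q) (hH : H ≤ Cfsg.isometryGroup F (⇑Q)) (hr : PP (Nat.card F) j r) (hs : PP (Nat.card F) k s)
    (hn : Fintype.card ι = j) (hj : Even j) (hk : Even k) (hj2 : 2 ≤ j) (hjk : j < 2 * k) (hpar : Odd (j / 2 + k / 2))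
    (hrH : r ∣ Nat.card H) (hsH : s ∣ Nat.card H)
    {K : Subalgebra F (Matrix ι ι F)} (hK : IsFieldSubalgebra 2 K) (hHK : H ≤ subalgebraNormalizer K) : False := by
  have hq := one_lt_q F
  have hcf : Fintype.card F = Nat.card F := (Nat.card_eq_fintype_card).symm
  have hne : Nonempty ι := Fintype.card_pos_iff.1 (by omega)
  obtain ⟨g, hgH, hg, hgr, hg1⟩ := exists_elt hH hr (by omega) hrH
  obtain ⟨h, hhH, hh, hhs, hh1⟩ := exists_elt hH hs (by omega) hsH
  have hfin : finrank F (ι → F) = j := by rw [Module.finrank_fintype_fun_eq_card, hn]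
  obtain ⟨hcg, -⟩ := hg.even_case hQ (lin_ne_one hg1) hr hj (by rw [hfin]; omega)
  obtain ⟨hch, -⟩ := hh.even_case hQ (lin_ne_one hh1) hs hk (by rw [hfin]; omega)
  have hcgt : cm (lin g) = ⊤ := Submodule.eq_top_of_finrank_eq (by rw [hcg, hfin])
  obtain ⟨J, hJK, hJ2, hJinj⟩ := exists_prim hK
  have hJg := comm_field Nat.prime_two hK (hHK hgH) hr.prime (by have := hg.two_lt; omega) hgr J hJK
  have hJh := comm_field Nat.prime_two hK (hHK hhH) hs.prime (by have := hh.two_lt; omega) hhs J hJK
  have hcomm : ∀ (a : GL ι F), (a : Matrix ι ι F) * J = J * (a : Matrix ι ι F) →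
      ∀ v, Matrix.toLin' J (lin a v) = lin a (Matrix.toLin' J v) := by
    intro a ha v
    rw [lin, Matrix.toLin'_apply, Matrix.toLin'_apply, Matrix.toLin'_apply, Matrix.toLin'_apply,
      Matrix.mulVec_mulVec, Matrix.mulVec_mulVec, ha]
  have hpw : ∀ n : ℕ, ∀ w, ((Matrix.toLin' J) ^ n) w = (J ^ n) *ᵥ w := by
    intro n w
    rw [← Matrix.toLin'_pow, Matrix.toLin'_apply]
  -- irreducibility
  have hirr : ∀ {x : Module.End F (ι → F)} {e t : ℕ}, Iso Q x t → PP (Nat.card F) e t → finrank F (cm x) = e → 1 ≤ e →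
      ∀ U ≤ cm x, Inv x U → U = ⊥ ∨ U = cm x := by
    intro x e t hx ht hce he U hU hUi
    rcases hx.le_or ht hce hUi with h1 | h1
    · left
      have := (H951.isCompl_fx_cm hx.ne0 hx.pow).inf_eq_bot
      rw [eq_bot_iff, ← this]
      exact le_inf h1 hU
    · exact Or.inr (le_antisymm hU h1)
  have hpow : ∀ {x : Module.End F (ι → F)} {e t : ℕ}, Iso Q x t → PP (Nat.card F) e t → Even e → 1 ≤ e →
      x ^ (Fintype.card F ^ (e / 2) + 1) = 1 := by
    intro x e t hx ht hev he
    have h1 : t ∣ Nat.card F ^ e - 1 := (ht.dvd_iff hq.le e).2 dvd_rfl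
    have h2 : ¬ t ∣ Nat.card F ^ (e / 2) - 1 := by
      rw [ht.dvd_iff hq.le]
      intro h3
      obtain ⟨c, hc⟩ := hev
      have := Nat.le_of_dvd (by omega) h3
      omega
    have h3 : Nat.card F ^ e - 1 = (Nat.card F ^ (e / 2) + 1) * (Nat.card F ^ (e / 2) - 1) := by
      have h4 := Nat.sq_sub_sq (Nat.card F ^ (e / 2)) 1
      rw [one_pow, ← pow_mul, Nat.div_mul_cancel (even_iff_two_dvd.1 hev)] at h4
      exact h4
    rw [h3] at h1
    obtain ⟨c, hc⟩ := (ht.prime.dvd_mul.1 h1).resolve_right h2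
    rw [hcf, hc, pow_mul, hx.pow, one_pow]
  refine no_quadratic_parity (Q := Q) (J := Matrix.toLin' J) (x := lin g) (y := lin h) (W := cm (lin h)) (h₁ := j / 2)
    (h₂ := k / 2) hg.iso hh.iso (hpow hg hr hj (by omega)) (hpow hh hs hk (by omega)) hpar ?_ H951.inv_cm ?_
    (cm_ne_bot (lin_ne_one hh1)) (nondeg_cm hQ hh.iso hh.ne0 hh.pow) (hcomm g hJg) (hcomm h hJh) ?_ ?_ ?_
  · intro U hU
    have := hirr hg hr hcg (by omega) U (by rw [hcgt]; exact le_top) hU
    rwa [hcgt] at this
  · exact hirr hh hs hch (by omega)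
  · intro w hw
    obtain ⟨v, rfl⟩ := hw
    refine ⟨Matrix.toLin' J v, ?_⟩
    rw [LinearMap.sub_apply, LinearMap.sub_apply, map_sub, hcomm h hJh]
    rfl
  · rw [← Matrix.toLin'_pow, hJ2]
  · intro w hw
    rw [hpw, Matrix.toLin'_apply] at hw
    exact hJinj w hw

end Mat

end Cfsg.Agent.H449.Reg
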